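import Cfsg.Agent.Lib.Fusion.PrimeResidual.Invariance
import Cfsg.Agent.Lib.Fusion.Relative
import Cfsg.Agent.Lib.Fusion.Systems
import Cfsg.Agent.Lib.Fusion.Normal
import Cfsg.Agent.Lib.Fusion.Alperin
import Cfsg.Agent.Lib.Fusion.Quotient

/-!
General lemmas for the centralizer in `S` of a normal subsystem.
-/

set_option autoImplicit false
set_option linter.unusedSectionVars false
set_option linter.style.haveILetI false

namespace Cfsg.FusionSystem.SubCent

universe u

section Groups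

variable {G : Type*} [Group G] [Finite G] {p : ℕ} [hp : Fact p.Prime]

theorem prime_part (g : G) : ∃ e : ℕ, ¬ p ∣ orderOf (g ^ p ^ e) := by
  refine ⟨(orderOf g).factorization p, ?_⟩
  rw [orderOf_pow' g (pow_ne_zero _ hp.out.ne_zero), Nat.gcd_eq_right (Nat.ordProj_dvd (orderOf g) p)]
  exact Nat.not_dvd_ordCompl hp.out (orderOf_pos g).ne'

/-- A group is generated by a Sylow subgroup and its elements of order prime to `p`. -/
theorem eq_top_of_sylow_of_pprime (K : Subgroup G) (T : Sylow p G) (hT : (T : Subgroup G) ≤ K)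
    (hK : ∀ g : G, ¬ p ∣ orderOf g → g ∈ K) : K = ⊤ := by
  let W : Subgroup G := Subgroup.closure {g | ¬ p ∣ orderOf g}
  have hWK : W ≤ K := (Subgroup.closure_le _).mpr hK
  have hWn : W.Normal := by
    refine Subgroup.Normal.mk fun n hn g => ?_
    have : W.map (MulAut.conj g).toMonoidHom ≤ W := by
      rw [Subgroup.map_le_iff_le_comap, Subgroup.closure_le]
      intro x hx
      refine Subgroup.subset_closure ?_
      show ¬ p ∣ orderOf ((MulAut.conj g) x)
      rwa [MulEquiv.orderOf_eq]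
    exact this ⟨n, hn, rfl⟩
  have hq : IsPGroup p (G ⧸ W) := by
    intro x
    obtain ⟨g, rfl⟩ := QuotientGroup.mk'_surjective W x
    obtain ⟨e, he⟩ := prime_part (p := p) g
    exact ⟨e, by rw [← map_pow, QuotientGroup.mk'_apply, QuotientGroup.eq_one_iff]
                 exact Subgroup.subset_closure he⟩
  obtain ⟨k, hk⟩ := IsPGroup.iff_card.mp hq
  rw [← Subgroup.index_eq_card] at hk
  rw [← Subgroup.index_eq_one]
  have h1 : K.index ∣ p ^ k := hk ▸ Subgroup.index_dvd_of_le hWK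
  have h2 : K.index ∣ (T : Subgroup G).index := Subgroup.index_dvd_of_le hT
  have hc : Nat.Coprime (p ^ k) (T : Subgroup G).index :=
    Nat.Coprime.pow_left _ ((Nat.Prime.coprime_iff_not_dvd hp.out).mpr T.not_dvd_index)
  exact Nat.eq_one_of_dvd_coprimes hc h1 h2

omit [Finite G] in
theorem eq_one_of_coprime_pow {z : G} {a k : ℕ} (h1 : z ^ a = 1) (h2 : z ^ k = 1)
    (hc : Nat.Coprime a k) : z = 1 := by
  have h : z ^ Nat.gcd a k = 1 := pow_gcd_eq_one.mpr ⟨h1, h2⟩
  rwa [hc.gcd_eq_one, pow_one] at h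

/-- A normal `p`-subgroup lies in every Sylow subgroup. -/
theorem le_sylow (T : Sylow p G) {K : Subgroup G} (hn : K.Normal) (hK : IsPGroup p K) :
    K ≤ (T : Subgroup G) := by
  obtain ⟨a, ha⟩ := exists_conj_mem_sylow T hK
  intro x hx
  have := ha (a⁻¹ * x * a) (by simpa using hn.conj_mem x hx a⁻¹)
  simpa [mul_assoc] using this

end Groups

variable {Ω : Type u} [Group Ω] {S T : Subgroup Ω} {F : FusionSystem S} {E : FusionSystem T}
  {P Q R A A' B B' : Subgroup Ω} {f g : Ω → Ω} {p : ℕ}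

theorem sup_image (h : F.IsIso R Q f) (hA : A ≤ R) (hB : B ≤ R) (hA' : ∀ y, y ∈ A' ↔ ∃ x ∈ A, f x = y)
    (hB' : ∀ y, y ∈ B' ↔ ∃ x ∈ B, f x = y) : F.IsIso (A ⊔ B) (A' ⊔ B') f := by
  obtain ⟨Q', h', -, hm⟩ := h.restrict (sup_le hA hB)
  obtain ⟨φ, hφ, hr, he⟩ := h'
  refine ⟨φ, hφ, ?_, he⟩
  have hmap : ∀ {U U' : Subgroup Ω} (hU : U ≤ A ⊔ B), (∀ y, y ∈ U' ↔ ∃ x ∈ U, f x = y) →
      (U.subgroupOf (A ⊔ B)).map φ = U' := by
    intro U U' hU hU'
    ext y
    constructor
    · rintro ⟨x, hx, rfl⟩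
      exact (hU' _).mpr ⟨x, hx, (he x).symm⟩
    · intro hy
      obtain ⟨x, hx, rfl⟩ := (hU' y).mp hy
      exact ⟨⟨x, hU hx⟩, hx, he _⟩
  rw [MonoidHom.range_eq_map, ← Subgroup.subgroupOf_self (A ⊔ B),
    Subgroup.subgroupOf_sup le_sup_left le_sup_right, Subgroup.map_sup,
    hmap le_sup_left hA', hmap le_sup_right hB']

theorem isIso_self [Finite S] (h : F.IsIso R Q f) (hA : A ≤ R) (hm : ∀ x ∈ A, f x ∈ A) :
    F.IsIso A A f := by
  obtain ⟨A₁, h₁, -, hA₁⟩ := h.restrict hA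
  have hle : A₁ ≤ A := fun y hy => by
    obtain ⟨x, hx, rfl⟩ := (hA₁ y).mp hy
    exact hm x hx
  haveI := finite_of_le h₁.le_left
  rwa [Subgroup.eq_of_le_of_card_ge hle h₁.card_eq.le] at h₁

/-- The members of a join are the images, so they obey every closed property. -/
theorem forall_closure_fixed (h : F.IsIso R Q f) {s : Set Ω} (hs : Subgroup.closure s ≤ R)
    (hfix : ∀ x ∈ s, f x = x) : ∀ x ∈ Subgroup.closure s, f x = x := by
  intro x hx
  induction hx using Subgroup.closure_induction with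
  | mem x hx => exact hfix x hx
  | one => exact h.apply_one
  | mul a b ha hb iha ihb => rw [h.apply_mul (hs ha) (hs hb), iha, ihb]
  | inv a ha iha => rw [h.apply_inv (hs ha), iha]

theorem iterate_isIso [Finite S] (h : F.IsIso P P f) (k : ℕ) : F.IsIso P P f^[k] := by
  induction k with
  | zero => exact IsIso.refl F h.le_left
  | succ k ih => exact (ih.comp h).congr fun x _ => Function.iterate_succ_apply' f k x

/-- Some iterate is the identity. -/
theorem exists_period [Finite S] (h : F.IsIso P P f) :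
    ∃ n : ℕ, 0 < n ∧ ∀ x ∈ P, f^[n] x = x := by
  obtain ⟨α, hα, he⟩ := h.toAut
  haveI := finite_mulAut_of_le h.le_left
  refine ⟨orderOf α, orderOf_pos α, fun x hx => ?_⟩
  rw [← coe_pow_apply he (orderOf α) ⟨x, hx⟩, pow_orderOf_eq_one]
  rfl

theorem ext_le (hP : P ≤ S) : P ⊔ centralizerIn S P ≤ S := sup_le hP centralizerIn_le

/-- Maps between `P` and itself preserve `C_S(P)`. -/
theorem map_centralizer {W : Subgroup Ω} (h : F.IsIso R W f) (hP : P ≤ R)
    (hm : ∀ y, y ∈ Q ↔ ∃ x ∈ P, f x = y) {c : Ω} (hc : c ∈ centralizerIn S P) (hcR : c ∈ R) :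
    f c ∈ centralizerIn S Q :=
  ⟨h.le_right (h.mem hcR), h.mem_centralizer hP hm hcR hc.2⟩

theorem image_self [Finite S] (h : F.IsIso R Q f) (hP : P ≤ R) (hm : ∀ x ∈ P, f x ∈ P) :
    ∀ y, y ∈ P ↔ ∃ x ∈ P, f x = y :=
  fun _ => ⟨(isIso_self h hP hm).surj, fun ⟨x, hx, he⟩ => he ▸ hm x hx⟩

/-- An automorphism of a fully centralized subgroup extends over its centralizer. -/
theorem extend_ext [Finite S] [Fact p.Prime] (hS : IsPGroup p S) (hF : F.IsSaturated p)
    (hP : F.IsFullyCentralized P) (h : F.IsIso P P f) :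
    ∃ g, F.IsIso (P ⊔ centralizerIn S P) (P ⊔ centralizerIn S P) g ∧ ∀ x ∈ P, g x = f x := by
  obtain ⟨φ, hφ, hr, he⟩ := h
  obtain ⟨ψ, hψ, hψe⟩ := (hF.isReceptive_of_isFullyCentralized hS hP).2 P φ hφ hr
  have hPN : P ≤ extender S P φ := le_extender hP.1 (F.apply_mem hφ)
  have hCN : centralizerIn S P ≤ extender S P φ := centralizerIn_le_extender (F.apply_mem hφ)
  have hi := isIso_funOf hψ
  have hP' : ∀ x ∈ P, funOf ψ x = f x := fun x hx => by
    have h1 := hψe x hx (hPN hx)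
    rw [funOf_apply ψ ⟨x, hPN hx⟩] at h1
    rw [h1]; exact he ⟨x, hx⟩
  have hPP : ∀ y, y ∈ P ↔ ∃ x ∈ P, funOf ψ x = y := fun y => by
    constructor
    · intro hy
      obtain ⟨x, hx⟩ := hr.ge hy
      exact ⟨x, x.2, (hP' x x.2).trans ((he x).symm.trans hx)⟩
    · rintro ⟨x, hx, rfl⟩
      rw [hP' x hx, ← he ⟨x, hx⟩]
      exact hr.le ⟨_, rfl⟩
  refine ⟨funOf ψ, isIso_self hi (sup_le hPN hCN) ?_, hP'⟩
  intro x hx
  obtain ⟨Q', hQ', -, hmQ⟩ := hi.restrict (sup_le hPN hCN)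
  have : Q' ≤ P ⊔ centralizerIn S P := by
    obtain ⟨φ', hφ', hr', he'⟩ := hQ'
    rw [← hr', MonoidHom.range_eq_map, ← Subgroup.subgroupOf_self (P ⊔ centralizerIn S P),
      Subgroup.subgroupOf_sup le_sup_left le_sup_right, Subgroup.map_sup]
    refine sup_le_sup ?_ ?_
    · rintro _ ⟨y, hy, rfl⟩
      rw [he']; exact (hPP _).mpr ⟨y, hy, rfl⟩
    · rintro _ ⟨y, hy, rfl⟩
      rw [he']
      exact map_centralizer hi hPN hPP hy (hCN hy)
  exact this ((hmQ _).mpr ⟨x, hx, rfl⟩)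

/-! ### Lifts -/

/-- An automorphism of `P C_S(P)` preserving `P` and trivial on the quotient. -/
structure Lift (F : FusionSystem S) (P : Subgroup Ω) (f : Ω → Ω) : Prop where
  iso : F.IsIso (P ⊔ centralizerIn S P) (P ⊔ centralizerIn S P) f
  pres : ∀ x ∈ P, f x ∈ P
  triv : ∀ c ∈ centralizerIn S P, c⁻¹ * f c ∈ P

namespace Lift

variable [Finite S] {f g : Ω → Ω} (h : Lift F P f)
include h

theorem le : P ≤ S := le_sup_left.trans h.iso.le_left

theorem restrictP : F.IsIso P P f := isIso_self h.iso le_sup_left h.pres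

theorem map_cent {c : Ω} (hc : c ∈ centralizerIn S P) : f c ∈ centralizerIn S P :=
  map_centralizer h.iso le_sup_left (image_self h.iso le_sup_left h.pres) hc
    (Subgroup.mem_sup_right hc)

/-- The quotient `c⁻¹ f c` is central in `P`. -/
theorem triv' {c : Ω} (hc : c ∈ centralizerIn S P) :
    c⁻¹ * f c ∈ P ∧ c⁻¹ * f c ∈ centralizerIn S P :=
  ⟨h.triv c hc, (centralizerIn S P).mul_mem ((centralizerIn S P).inv_mem hc) (h.map_cent hc)⟩

theorem comp (hg : Lift F P g) : Lift F P (fun x => g (f x)) := by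
  refine ⟨h.iso.comp hg.iso, fun x hx => hg.pres _ (h.pres x hx), fun c hc => ?_⟩
  have h1 := h.triv c hc
  have h2 := hg.triv _ (h.map_cent hc)
  have := P.mul_mem h1 h2
  simpa [mul_assoc] using this

theorem iterate (k : ℕ) : Lift F P f^[k] := by
  induction k with
  | zero => exact ⟨IsIso.refl F h.iso.le_left, fun x hx => hx, fun c _ => by simp⟩
  | succ k ih =>
    rw [Function.iterate_succ']
    exact ih.comp h

theorem exists_symm : ∃ g, Lift F P g ∧ (∀ x ∈ P ⊔ centralizerIn S P, g (f x) = x) ∧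
    ∀ x ∈ P ⊔ centralizerIn S P, f (g x) = x := by
  obtain ⟨n, hn, hper⟩ := exists_period h.iso
  obtain ⟨k, rfl⟩ : ∃ k, n = k + 1 := ⟨n - 1, by omega⟩
  refine ⟨f^[k], h.iterate k, fun x hx => ?_, fun x hx => ?_⟩
  · rw [← Function.iterate_succ_apply]; exact hper x hx
  · rw [← Function.iterate_succ_apply' f k x]; exact hper x hx

/-- An iterate of order prime to `p` agreeing on `P`, when the restriction has such order. -/
theorem exists_pprime [Fact p.Prime] {m : ℕ} (hm : ¬ p ∣ m) (hper : ∀ x ∈ P, f^[m] x = x) :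
    ∃ g, Lift F P g ∧ (∀ x ∈ P, g x = f x) ∧
      ∃ n : ℕ, ¬ p ∣ n ∧ ∀ x ∈ P ⊔ centralizerIn S P, g^[n] x = x := by
  obtain ⟨α, hα, he⟩ := h.iso.toAut
  haveI := finite_mulAut_of_le h.iso.le_left
  obtain ⟨e, hord⟩ := prime_part (p := p) α
  have hpp := (Fact.out : p.Prime)
  obtain ⟨r, hr⟩ : ∃ r : ℕ, p ^ e * r ≡ 1 [MOD m] := by
    rcases eq_or_ne m 1 with rfl | hm1
    · exact ⟨0, Nat.modEq_one⟩
    have hm0 : m ≠ 0 := fun e => hm (e ▸ dvd_zero p)
    obtain ⟨r, -, hr⟩ := Nat.exists_mul_mod_eq_one_of_coprime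
      (Nat.Coprime.pow_left e ((Nat.Prime.coprime_iff_not_dvd hpp).mpr hm)) (by omega)
    exact ⟨r, by rw [Nat.ModEq, hr, Nat.one_mod_eq_one.mpr hm1]⟩
  refine ⟨f^[p ^ e * r], h.iterate _, fun x hx => ?_, orderOf (α ^ p ^ e), hord, fun x hx => ?_⟩
  · have hper' : ∀ j : ℕ, ∀ y ∈ P, f^[m * j] y = y := by
      intro j
      induction j with
      | zero => intro y _; rfl
      | succ j ih =>
        intro y hy
        rw [Nat.mul_succ, Function.iterate_add_apply, hper y hy, ih y hy]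
    rw [← Nat.mod_add_div (p ^ e * r) m, Function.iterate_add_apply, hper' _ x hx, hr]
    rcases eq_or_ne m 1 with rfl | hm1
    · simpa using (hper x hx).symm
    · rw [Nat.one_mod_eq_one.mpr hm1]; rfl
  · rw [← Function.iterate_mul, ← coe_pow_apply he _ ⟨x, hx⟩]
    have : α ^ (p ^ e * r * orderOf (α ^ p ^ e)) = 1 := by
      rw [mul_right_comm, pow_mul, pow_mul, pow_orderOf_eq_one, one_pow]
    rw [this]
    rfl

/-- Every coset of `Z(P)` in `C_S(P)` has a fixed point. -/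
theorem exists_fixed [Fact p.Prime] (hS : IsPGroup p S) {m : ℕ} (hm : ¬ p ∣ m)
    (hper : ∀ x ∈ P ⊔ centralizerIn S P, f^[m] x = x) {c : Ω} (hc : c ∈ centralizerIn S P) :
    ∃ w ∈ P, w ∈ centralizerIn S P ∧ f (c * w) = c * w := by
  set Z := P ⊓ centralizerIn S P
  set W := P ⊔ centralizerIn S P
  have hcomm : ∀ {a b : Ω}, a ∈ Z → b ∈ Z → a * b = b * a := fun {a b} ha hb =>
    Subgroup.mem_centralizer_iff.mp hb.2.2 a ha.1
  have hZW : Z ≤ W := inf_le_left.trans le_sup_left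
  have hcW : c ∈ W := Subgroup.mem_sup_right hc
  have hfZ : ∀ a ∈ Z, f a ∈ Z := fun a ha => ⟨h.pres a ha.1, h.map_cent ha.2⟩
  let D : ℕ → Ω := fun k => c⁻¹ * f^[k] c
  have hD : ∀ k, D k ∈ Z := fun k => (h.iterate k).triv' hc
  have hfD : ∀ k, f c * f (D k) = c * D (k + 1) := by
    intro k
    rw [← h.iso.apply_mul hcW (hZW (hD k))]
    simp only [D, mul_inv_cancel_left, Function.iterate_succ_apply']
  let δ := c⁻¹ * f c
  have hδ : δ ∈ Z := h.triv' hc
  have hfD' : ∀ k, δ * f (D k) = D (k + 1) := by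
    intro k
    simp only [δ, mul_assoc, hfD k, inv_mul_cancel_left]
  let A : ℕ → Ω := fun k => Nat.rec 1 (fun i a => a * D i) k
  have hAs : ∀ k, A (k + 1) = A k * D k := fun k => rfl
  have hA : ∀ k, A k ∈ Z := by
    intro k
    induction k with
    | zero => exact Z.one_mem
    | succ k ih => exact Z.mul_mem ih (hD k)
  have key : ∀ k, δ ^ k * f (A k) = A (k + 1) := by
    intro k
    induction k with
    | zero => simp [A, D, h.iso.apply_one]
    | succ k ih =>
      rw [hAs k, h.iso.apply_mul (hZW (hA k)) (hZW (hD k)), pow_succ,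
        show δ ^ k * δ * (f (A k) * f (D k)) = δ ^ k * (δ * f (A k)) * f (D k) by group,
        hcomm hδ (hfZ _ (hA k)),
        show δ ^ k * (f (A k) * δ) * f (D k) = (δ ^ k * f (A k)) * (δ * f (D k)) by group,
        ih, hfD' k, hAs (k + 1)]
  have hDm : D m = 1 := by simp [D, hper c hcW]
  have hfix := key m
  rw [hAs m, hDm, mul_one] at hfix
  haveI := finite_of_le (inf_le_left.trans h.le : Z ≤ S)
  obtain ⟨e, he⟩ := IsPGroup.iff_card.mp (hS.to_le (inf_le_left.trans h.le : Z ≤ S))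
  have hexp : ∀ a ∈ Z, a ^ p ^ e = 1 := fun a ha => by
    have h1 := pow_card_eq_one' (x := (⟨a, ha⟩ : Z))
    rw [he] at h1
    exact congrArg Subtype.val h1
  obtain ⟨n, hn⟩ : ∃ n : ℕ, ∀ a ∈ Z, a ^ (m * n) = a := by
    rcases eq_or_ne (p ^ e) 1 with h1 | h1
    · exact ⟨1, fun a ha => by
        have := hexp a ha; rw [h1, pow_one] at this; rw [this, one_pow]⟩
    have hpp := (Fact.out : p.Prime)
    obtain ⟨n, -, hn⟩ := Nat.exists_mul_mod_eq_one_of_coprime
      (Nat.Coprime.pow_right e ((Nat.Prime.coprime_iff_not_dvd hpp).mpr hm).symm)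
      (by have := pow_pos hpp.pos e; omega)
    exact ⟨n, fun a ha => by
      rw [← Nat.mod_add_div (m * n) (p ^ e), hn, pow_add, pow_mul, hexp a ha, one_pow, mul_one,
        pow_one]⟩
  have hfpow : ∀ k : ℕ, f (A m ^ k) = f (A m) ^ k := by
    intro k
    induction k with
    | zero => simp [h.iso.apply_one]
    | succ k ih => rw [pow_succ, h.iso.apply_mul (hZW (Z.pow_mem (hA m) k)) (hZW (hA m)), ih, pow_succ]
  have h2 : δ * f (A m ^ n) = A m ^ n := by
    have hc1 : Commute (δ ^ m) (f (A m)) := hcomm (Z.pow_mem hδ m) (hfZ _ (hA m))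
    have := congrArg (· ^ n) hfix
    simp only [hc1.mul_pow, ← pow_mul, hn δ hδ] at this
    rw [hfpow]; exact this
  refine ⟨A m ^ n, (Z.pow_mem (hA m) n).1, (Z.pow_mem (hA m) n).2, ?_⟩
  rw [h.iso.apply_mul hcW (hZW (Z.pow_mem (hA m) n))]
  calc f c * f (A m ^ n) = c * (δ * f (A m ^ n)) := by simp [δ, mul_assoc]
    _ = c * A m ^ n := by rw [h2]

end Lift

end Cfsg.FusionSystem.SubCent
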