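import Cfsg.Agent.Lib.Fusion.SubCent.Extend
import Cfsg.Agent.Lib.Fusion.ResidualReduction.Compose
import Cfsg.Agent.Lib.Fusion.IndexPower.Main
import Cfsg.Agent.Lib.Fusion.Quotient
import Cfsg.Agent.Lib.Fusion.PrimeResidual.CentralizerLift

/-!
A normal subsystem over the centralizer of a normal subsystem.
-/

set_option autoImplicit false
set_option linter.unusedSectionVars false
set_option linter.style.haveILetI false

namespace Cfsg.FusionSystem.SubCent

universe u

variable {Ω : Type u} [Group Ω] {S T : Subgroup Ω} {F : FusionSystem S} {E : FusionSystem T}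
  {P Q R : Subgroup Ω} {f g : Ω → Ω} {p : ℕ}

theorem exists_of_centralizerSystem {hTS : T ≤ S} (h : (F.centralizerSystem T hTS).IsIso P Q f) :
    ∃ R g, F.IsIso (P ⊔ T) R g ∧ (∀ x ∈ P, g x = f x) ∧ ∀ t ∈ T, g t = t := by
  obtain ⟨φ, ⟨-, -, -, ψ, hψ, hψe, hψT⟩, -, hφe⟩ := h
  exact ⟨ψ.range, funOf ψ, isIso_funOf hψ,
    fun x hx => ((funOf_apply ψ ⟨x, Subgroup.mem_sup_left hx⟩).symm.trans (hψe ⟨x, hx⟩)).trans (hφe ⟨x, hx⟩),
    fun t ht => (funOf_apply ψ ⟨t, Subgroup.mem_sup_right ht⟩).symm.trans (hψT ⟨t, ht⟩)⟩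

theorem isIso_centralizerSystem {hTS : T ≤ S} (h : F.IsIso (P ⊔ T) R g) (hfix : ∀ t ∈ T, g t = t)
    (hP : P ≤ centralizerIn S T) (hQ : ∀ y, y ∈ Q ↔ ∃ x ∈ P, g x = y) (hQC : Q ≤ centralizerIn S T) :
    (F.centralizerSystem T hTS).IsIso P Q g := by
  obtain ⟨ψ, hψ, -, hψe⟩ := h
  refine ⟨ψ.comp (Subgroup.inclusion le_sup_left), ⟨F.restrict_mem hψ le_sup_left, hP, fun x => ?_, ψ, hψ,
    fun x => rfl, fun t => (hψe _).trans (hfix t t.2)⟩, ?_, fun x => hψe _⟩
  · exact hQC ((hQ _).mpr ⟨x, x.2, (hψe (Subgroup.inclusion le_sup_left x)).symm⟩)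
  · ext y
    rw [hQ]
    exact ⟨fun ⟨x, hx⟩ => ⟨x, x.2, (hψe _).symm.trans hx⟩, fun ⟨x, hx, hxy⟩ => ⟨⟨x, hx⟩, (hψe _).trans hxy⟩⟩

variable [Finite S] [Fact p.Prime]

/-- The saturated subsystem of `p`-power index of `C_F(T)` over `C_S(E)` is normal. -/
theorem exists_normal_centSub (hS : IsPGroup p S) (hE : E.IsNormalIn F p) :
    ∃ D : FusionSystem (centSub E F), D.IsNormalIn F p ∧
      ∀ P : Subgroup Ω, D.Hom P ⊆ F.centralizerHom T P := by
  obtain ⟨hEs, hF, hEi⟩ := id hE.1
  have hT := hEi.2.1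
  have hTS := hT.1
  set C := F.centralizerSystem T hTS with hC
  have hCs : C.IsSaturated p := hF.isSaturated_centralizerSystem hS
    (hF.isFullyCentralized_of_isFullyNormalized hS (isFullyNormalized_of_stronglyClosed hT)) fun _ => rfl
  have hZS : centralizerIn S T ≤ S := centralizerIn_le
  haveI := finite_of_le hZS
  have hZ := hS.to_le hZS
  set Y := centSub E F with hYdef
  have hYZ : Y ≤ centralizerIn S T := centSub_le
  have hYS : Y ≤ S := hYZ.trans hZS
  haveI := finite_of_le hYS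
  have hhyp : C.hyperfocalSubgroup p ≤ Y :=
    hyperfocalSubgroup_le_focalSubgroup.trans (focal_le_centSub hS hE (fun _ => rfl))
  have hYc : F.StronglyClosed Y := stronglyClosed_centSub hS hE
  have hYn : (Y.subgroupOf (centralizerIn S T)).Normal := ⟨fun x hx g =>
    Subgroup.subset_closure (conj_mem_centSub hE (hZS g.2) (mem_centSub hS hE hx))⟩
  obtain ⟨D, ⟨hDs, hDidx⟩, -⟩ := hCs.existsUnique_pPowerIndex hZ hYZ hhyp
  have hDn := hCs.isNormalIn_of_pPowerIndex hZ hDs hYZ hYn hDidx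
  have hsub : D.IsSubsystemOf F := fun P φ hφ => (hDidx.1 P hφ).1
  refine ⟨D, ⟨⟨hDs, hF, StrongInvariance.isInvariantIn hF hS hYc hsub (strongInvariance_of_iso ?_)⟩, ?_⟩,
    fun P φ hφ => hDidx.1 P hφ⟩
  · intro V V' P Q h f hh hV hf hP hQ P' Q' hP' hQ'
    obtain ⟨R, g, hg, hge⟩ := exists_extend_T hS hE hh hV
    have hgT : ∀ t ∈ T, g t ∈ T := fun t ht => hT.iso_mem hg (Subgroup.mem_sup_right ht) ht
    obtain ⟨a, ha, hae⟩ := extend_ext hS hF
      (hF.isFullyCentralized_of_isFullyNormalized hS (isFullyNormalized_of_stronglyClosed hT))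
      (isIso_self hg le_sup_right hgT)
    have haT : ∀ t ∈ T, a t ∈ T := fun t ht => by rw [hae t ht]; exact hgT t ht
    have hTT := image_self ha le_sup_left haT
    have haZ : ∀ c ∈ centralizerIn S T, a c ∈ centralizerIn S T := fun c hc =>
      map_centralizer ha le_sup_left hTT hc (Subgroup.mem_sup_right hc)
    have haZZ := isIso_self ha le_sup_right haZ
    have haY : ∀ x ∈ Y, a x ∈ Y := fun x hx => hYc.iso_mem ha (Subgroup.mem_sup_right (hYZ hx)) hx
    obtain ⟨a', ha', hl, hr⟩ := ha.symm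
    -- the part fixing `T`
    have hR : R ≤ T ⊔ centralizerIn S T := by
      refine PrimeResidual.image_sup_le hg (fun x hx => ?_) fun t ht => Subgroup.mem_sup_left (hgT t ht)
      exact Subgroup.mem_sup_right (hYZ (hYc.iso_mem hg (Subgroup.mem_sup_left hx) (hV hx)))
    obtain ⟨R₁, hR₁, -, -⟩ := ha'.restrict hR
    have hb := hg.comp hR₁
    have hbfix : ∀ t ∈ T, a' (g t) = t := fun t ht => by rw [← hae t ht, hl t (Subgroup.mem_sup_left ht)]
    obtain ⟨V₁, -, -, hV₁⟩ := hb.restrict (le_sup_left : V ≤ V ⊔ T)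
    have hV₁Z : V₁ ≤ centralizerIn S T := fun y hy => by
      obtain ⟨x, hx, rfl⟩ := (hV₁ y).mp hy
      exact hYZ (hYc.iso_mem hb (Subgroup.mem_sup_left hx) (hV hx))
    have hbC : C.IsIso V V₁ (fun x => a' (g x)) :=
      isIso_centralizerSystem hb hbfix (hV.trans hYZ) hV₁ hV₁Z
    obtain ⟨P₁, -, -, hP₁⟩ := hbC.restrict hP
    obtain ⟨Q₁, -, -, hQ₁⟩ := hbC.restrict hQ
    obtain ⟨f₁, hf₁, hf₁e⟩ := hDn.1.2.2.iso_transport hbC hV hf hP hQ hP₁ hQ₁
    have hba : ∀ x ∈ V, a (a' (g x)) = h x := fun x hx => by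
      rw [hr _ (hR (hg.mem (Subgroup.mem_sup_left hx))), hge x hx]
    have himg : ∀ {A A' A₁ : Subgroup Ω}, A ≤ V → (∀ y, y ∈ A' ↔ ∃ x ∈ A, h x = y) →
        (∀ y, y ∈ A₁ ↔ ∃ x ∈ A, a' (g x) = y) → ∀ y, y ∈ A' ↔ ∃ x ∈ A₁, a x = y := by
      intro A A' A₁ hA hA' hA₁ y
      rw [hA']
      exact ⟨fun ⟨x, hx, hxy⟩ => ⟨_, (hA₁ _).mpr ⟨x, hx, rfl⟩, (hba x (hA hx)).trans hxy⟩,
        fun ⟨z, hz, hzy⟩ => by
          obtain ⟨x, hx, rfl⟩ := (hA₁ z).mp hz
          exact ⟨x, hx, (hba x (hA hx)).symm.trans hzy⟩⟩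
    obtain ⟨f', hf', hf'e⟩ := pPowerIndex_transport_of hS hZS hDs hDidx hYZ haZZ (fun P Q f hf P' Q' hP' hQ' => by
      -- automorphisms of `C_S(T)` extending to `T` stabilise `C_F(T)`
      obtain ⟨R₂, k, hk, hke, hkT⟩ := exists_of_centralizerSystem hf
      have hPW : P ⊔ T ≤ T ⊔ centralizerIn S T :=
        sup_le (hf.le_left.trans le_sup_right) le_sup_left
      have hR₂W : R₂ ≤ T ⊔ centralizerIn S T := PrimeResidual.image_sup_le hk
        (fun x hx => by rw [hke x hx]; exact Subgroup.mem_sup_right (hf.le_right (hf.mem hx)))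
        fun t ht => by rw [hkT t ht]; exact Subgroup.mem_sup_left ht
      have h1 := sup_image ha (hf.le_left.trans le_sup_right) le_sup_left hP' hTT
      obtain ⟨c, hc, hcl, -⟩ := h1.symm
      obtain ⟨R₃, hR₃, -, -⟩ := ha.restrict hR₂W
      have htot := (hc.comp hk).comp hR₃
      refine ⟨_, isIso_centralizerSystem htot (fun t ht => ?_) ?_ ?_ ?_, fun x hx => ?_⟩
      · show a (k (c t)) = t
        obtain ⟨s, hs, rfl⟩ := (hTT t).mp ht
        rw [hcl s (Subgroup.mem_sup_right hs), hkT s hs]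
      · intro y hy
        obtain ⟨x, hx, rfl⟩ := (hP' y).mp hy
        exact haZ x (hf.le_left hx)
      · intro y
        rw [hQ']
        constructor
        · rintro ⟨z, hz, rfl⟩
          obtain ⟨x, hx, rfl⟩ := hf.surj hz
          exact ⟨a x, (hP' _).mpr ⟨x, hx, rfl⟩, by
            show a (k (c (a x))) = a (f x)
            rw [hcl x (Subgroup.mem_sup_left hx), hke x hx]⟩
        · rintro ⟨w, hw, rfl⟩
          obtain ⟨x, hx, rfl⟩ := (hP' w).mp hw
          exact ⟨f x, hf.mem hx, by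
            show a (f x) = a (k (c (a x)))
            rw [hcl x (Subgroup.mem_sup_left hx), hke x hx]⟩
      · intro y hy
        obtain ⟨z, hz, rfl⟩ := (hQ' y).mp hy
        exact haZ z (hf.le_right hz)
      · show a (k (c (a x))) = a (f x)
        rw [hcl x (Subgroup.mem_sup_left hx), hke x hx])
      haY hf₁ (himg hP hP' hP₁) (himg hQ hQ' hQ₁)
    refine ⟨f', hf', fun x hx => ?_⟩
    rw [← hba x (hP hx), hf'e _ ((hP₁ _).mpr ⟨x, hx, rfl⟩), hf₁e x hx, hba _ (hQ (hf.mem hx))]
  · -- the extension condition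
    intro α hα
    set M := Y ⊔ centralizerIn S Y with hMdef
    have hMS : M ≤ S := sup_le hYS centralizerIn_le
    haveI := finite_of_le hMS
    haveI : Finite (MulAut M) := finite_mulAut_of_le hMS
    have hTCY : T ≤ centralizerIn S Y := fun t ht => ⟨hTS ht, Subgroup.mem_centralizer_iff.mpr fun y hy =>
      (Subgroup.mem_centralizer_iff.mp (hYZ hy).2 t ht).symm⟩
    have hTM : T ≤ M := hTCY.trans le_sup_right
    let X : Subgroup (MulAut Y) :=
      { carrier := {a | ∃ b : MulAut M, b ∈ F.autGroup M ∧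
          (∀ x : Y, ((b (Subgroup.inclusion le_sup_left x) : M) : Ω) = ((a x : Y) : Ω)) ∧
          ∀ c : M, (c : Ω) ∈ centralizerIn S Y → (c : Ω)⁻¹ * ((b c : M) : Ω) ∈ Y ⊓ Subgroup.centralizer (Y : Set Ω)}
        one_mem' := ⟨1, one_mem _, fun x => rfl, fun c _ => by simp⟩
        mul_mem' := by
          rintro a₁ a₂ ⟨b₁, hb₁, h₁, h₁'⟩ ⟨b₂, hb₂, h₂, h₂'⟩
          refine ⟨b₁ * b₂, mul_mem hb₁ hb₂, fun x => ?_, fun c hc => ?_⟩
          · exact (congrArg (fun z : M => ((b₁ z : M) : Ω)) (Subtype.ext (h₂ x))).trans (h₁ (a₂ x))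
          · have hc2 : ((b₂ c : M) : Ω) ∈ centralizerIn S Y := by
              refine ⟨hMS (b₂ c).2, ?_⟩
              have := mul_mem hc.2 (h₂' c hc).2
              rwa [mul_inv_cancel_left] at this
            have := mul_mem (h₂' c hc) (h₁' (b₂ c) hc2)
            rwa [mul_assoc, mul_inv_cancel_left] at this
        inv_mem' := by
          rintro a ⟨b, hb, h, h'⟩
          refine ⟨b⁻¹, InvMemClass.inv_mem hb, fun x => ?_, fun c hc => ?_⟩
          · have h3 : b (Subgroup.inclusion le_sup_left (a⁻¹ x)) = Subgroup.inclusion le_sup_left x :=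
              Subtype.ext ((h (a⁻¹ x)).trans (congrArg (fun z : Y => (z : Ω)) (MulAut.apply_inv_self Y a x)))
            rw [← h3]
            exact congrArg (fun z : M => (z : Ω)) (MulAut.inv_apply_self M b _)
          · have hall : ∀ n : ℕ, (c : Ω)⁻¹ * (((b ^ n) c : M) : Ω) ∈ Y ⊓ Subgroup.centralizer (Y : Set Ω) := by
              intro n
              induction n with
              | zero => simp
              | succ n ih =>
                have hcn : (((b ^ n) c : M) : Ω) ∈ centralizerIn S Y := by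
                  refine ⟨hMS ((b ^ n) c).2, ?_⟩
                  have := mul_mem hc.2 ih.2
                  rwa [mul_inv_cancel_left] at this
                have := mul_mem ih (h' _ hcn)
                rw [mul_assoc, mul_inv_cancel_left] at this
                rwa [pow_succ', MulAut.mul_apply]
            obtain ⟨n, hn⟩ := ((isOfFinOrder_of_finite b).mem_powers_iff_mem_zpowers).mpr
              (InvMemClass.inv_mem (Subgroup.mem_zpowers b))
            rw [← hn]
            exact hall n }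
    suffices hX : D.autGroup Y ≤ X from hX hα
    obtain ⟨-, Sy, hSy⟩ := hDs.isFullyAutomized_of_isFullyNormalized (hS.to_le hYS) (isFullyNormalized_self (F := D))
    haveI := finite_autGroup (F := D) (le_refl Y)
    have htop : D.autGroup Y ≤ Inn Y ⊔ (pResidual p (D.autGroup Y)).map (D.autGroup Y).subtype := by
      intro a ha
      have h1 : (⟨a, ha⟩ : D.autGroup Y) ∈ (Sy : Subgroup (D.autGroup Y)) ⊔ pResidual p (D.autGroup Y) := by
        rw [CfsgLib.Transfer.sylow_sup_pResidual Sy]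
        exact Subgroup.mem_top _
      have h2 := Subgroup.mem_map_of_mem (D.autGroup Y).subtype h1
      rw [Subgroup.map_sup] at h2
      have h3 : (Sy : Subgroup (D.autGroup Y)).map (D.autGroup Y).subtype ≤ Inn Y := by
        rw [hSy, ← inn_eq_autInducedBy]
        exact Subgroup.map_comap_le _ _
      exact (sup_le_sup h3 le_rfl : _ ⊔ (pResidual p (D.autGroup Y)).map (D.autGroup Y).subtype ≤ _) h2
    refine htop.trans (sup_le ?_ ?_)
    · rintro _ ⟨y, rfl⟩
      have hyM : (y : Ω) ∈ M := Subgroup.mem_sup_left y.2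
      refine ⟨MulAut.conj ⟨y, hyM⟩, inn_le_autGroup hMS ⟨⟨y, hyM⟩, rfl⟩, fun x => rfl, fun c hc => ?_⟩
      show (c : Ω)⁻¹ * ((y : Ω) * c * (y : Ω)⁻¹) ∈ _
      rw [Subgroup.mem_centralizer_iff.mp hc.2 y y.2, mul_inv_cancel_right, inv_mul_cancel]
      exact one_mem _
    rw [Subgroup.map_le_iff_le_comap]
    refine (Subgroup.closure_le _).mpr fun γ hγ => ?_
    show (γ : MulAut Y) ∈ X
    -- an extension fixing `T`
    obtain ⟨f, hf, hfe⟩ := isIso_of_aut (le_refl Y) γ.2
    obtain ⟨R, g, hg, hgY, hgT⟩ := exists_of_centralizerSystem (hf.mono hDidx.1)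
    have hgYY : ∀ y ∈ Y, g y ∈ Y := fun y hy => by rw [hgY y hy]; exact hf.mem hy
    have hgg : F.IsIso (Y ⊔ T) (Y ⊔ T) g := sup_image hg le_sup_left le_sup_right
      (image_self hg le_sup_left hgYY) (image_self hg le_sup_right fun t ht => by rw [hgT t ht]; exact ht)
    have hYT : F.StronglyClosed (Y ⊔ T) := hYc.sup hF hS hT
    have hYTn : ∀ z ∈ Y ⊔ T, ∃ y ∈ Y, ∃ t ∈ T, z = y * t := fun z hz => by
      have hz' : z ∈ (↑(Y ⊔ T) : Set Ω) := hz
      rw [Subgroup.coe_mul_of_left_le_normalizer_right Y T (hYS.trans hT.le_normalizer)] at hz'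
      obtain ⟨y, hy, t, ht, rfl⟩ := hz'
      exact ⟨y, hy, t, ht, rfl⟩
    have hgc : ∀ c ∈ centralizerIn S Y, ∀ x ∈ Y ⊔ T, g (c * x * c⁻¹) = c * g x * c⁻¹ := by
      intro c hc x hx
      obtain ⟨y, hy, t, ht, rfl⟩ := hYTn x hx
      have hcy : ∀ w ∈ Y, c * w * c⁻¹ = w := fun w hw => by
        rw [← Subgroup.mem_centralizer_iff.mp hc.2 w hw, mul_inv_cancel_right]
      have hct : c * t * c⁻¹ ∈ T := hT.conj_mem_of_mem hc.1 ht
      rw [show c * (y * t) * c⁻¹ = (c * y * c⁻¹) * (c * t * c⁻¹) by group, hcy y hy,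
        hgg.apply_mul (Subgroup.mem_sup_left hy) (Subgroup.mem_sup_right hct),
        hgg.apply_mul (Subgroup.mem_sup_left hy) (Subgroup.mem_sup_right ht), hgT t ht, hgT _ hct,
        show c * (g y * t) * c⁻¹ = (c * g y * c⁻¹) * (c * t * c⁻¹) by group, hcy _ (hgYY y hy)]
    obtain ⟨b, M', hb, hbe⟩ := (hF.isReceptive_of_isFullyNormalized hS
      (isFullyNormalized_of_stronglyClosed hYT)).extend hgg hMS (sup_le le_sup_left hTM)
      (hMS.trans hYT.le_normalizer) fun m hm => by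
      obtain ⟨y, hy, c, hc, rfl⟩ := (mem_sup_centralizerIn (le_refl Y)).mp hm
      refine ⟨g y * c, S.mul_mem (hYS (hgYY y hy)) hc.1, fun x hx => ?_⟩
      have hcx : c * x * c⁻¹ ∈ Y ⊔ T :=
        (Subgroup.mem_normalizer_iff.mp (hYT.le_normalizer hc.1) x).mp hx
      rw [show y * c * x * (y * c)⁻¹ = y * (c * x * c⁻¹) * y⁻¹ by group,
        hgg.apply_conj (Subgroup.mem_sup_left hy) hcx, hgc c hc x hx]
      group
    have hbY : ∀ y ∈ Y, b y = f y := fun y hy => (hbe y (Subgroup.mem_sup_left hy)).trans (hgY y hy)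
    have hYY := image_self hb le_sup_left fun y hy => by rw [hbY y hy]; exact hf.mem hy
    have hM' : M' = M := hb.eq_of_le hMS (PrimeResidual.image_sup_le hb
      (fun y hy => by rw [hbY y hy]; exact Subgroup.mem_sup_left (hf.mem hy))
      fun c hc => Subgroup.mem_sup_right (map_centralizer hb le_sup_left hYY hc (Subgroup.mem_sup_right hc))) le_rfl
    rw [hM'] at hb
    obtain ⟨b₀, hb₀, hb₀e⟩ := hb.toAut
    -- the part of order prime to `p`
    obtain ⟨k, hk⟩ := CfsgLib.PResidual.exists_pow_coprime (p := p) b₀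
    have hγc : (orderOf (γ : MulAut Y)).Coprime p := by rw [Subgroup.orderOf_coe]; exact hγ
    obtain ⟨l, hl⟩ := exists_pow_eq_self_of_coprime (x := (γ : MulAut Y)) (n := p ^ k)
      (Nat.Coprime.pow_left k hγc.symm)
    set β := (b₀ ^ p ^ k) ^ l with hβdef
    have hβM : β ∈ F.autGroup M := pow_mem (pow_mem hb₀ _) _
    have hβc : (orderOf β).Coprime p := Nat.Coprime.coprime_dvd_left (orderOf_pow_dvd l) hk
    have hrY : ∀ (n : ℕ) (x : Y), (((b₀ ^ n) (Subgroup.inclusion le_sup_left x) : M) : Ω) =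
        ((((γ : MulAut Y) ^ n) x : Y) : Ω) := by
      intro n
      induction n with
      | zero => intro x; rfl
      | succ n ih =>
        intro x
        rw [pow_succ', pow_succ', MulAut.mul_apply, MulAut.mul_apply]
        refine (congrArg (fun z : M => ((b₀ z : M) : Ω)) (Subtype.ext (ih x) :
          (b₀ ^ n) (Subgroup.inclusion le_sup_left x) =
            Subgroup.inclusion le_sup_left (((γ : MulAut Y) ^ n) x))).trans ?_
        exact (hb₀e _).trans ((hbY _ (SetLike.coe_mem _)).trans (hfe _).symm)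
    have hrT : ∀ (n : ℕ) (t : T), (((b₀ ^ n) (Subgroup.inclusion hTM t) : M) : Ω) = t := by
      intro n t
      induction n with
      | zero => rfl
      | succ n ih =>
        rw [pow_succ', MulAut.mul_apply]
        refine (congrArg (fun z : M => ((b₀ z : M) : Ω)) (Subtype.ext ih :
          (b₀ ^ n) (Subgroup.inclusion hTM t) = Subgroup.inclusion hTM t)).trans ?_
        exact (hb₀e _).trans ((hbe _ (Subgroup.mem_sup_right t.2)).trans (hgT t t.2))
    obtain ⟨e, he, hee⟩ := isIso_of_aut hMS hβM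
    have heY : ∀ y : Y, e y = (((γ : MulAut Y) y : Y) : Ω) := fun y => by
      refine (hee (Subgroup.inclusion le_sup_left y)).symm.trans ?_
      rw [hβdef, ← pow_mul, hrY, pow_mul, hl]
    have heT : ∀ t ∈ T, e t = t := fun t ht => by
      refine (hee (Subgroup.inclusion hTM ⟨t, ht⟩)).symm.trans ?_
      rw [hβdef, ← pow_mul, hrT]
    have heYY : ∀ y ∈ Y, e y ∈ Y := fun y hy => by rw [heY ⟨y, hy⟩]; exact SetLike.coe_mem _
    have heC : ∀ c ∈ centralizerIn S Y, e c ∈ centralizerIn S Y := fun c hc =>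
      map_centralizer he le_sup_left (image_self he le_sup_left heYY) hc (Subgroup.mem_sup_right hc)
    -- first displacement
    have hd : ∀ c ∈ centralizerIn S Y, c⁻¹ * e c ∈ centralizerIn S T ⊓ Subgroup.centralizer (Y : Set Ω) := by
      intro c hc
      have hec := heC c hc
      have hcM : c ∈ M := Subgroup.mem_sup_right hc
      refine ⟨⟨S.mul_mem (S.inv_mem hc.1) hec.1, Subgroup.mem_centralizer_iff.mpr fun t ht => ?_⟩,
        Subgroup.mul_mem _ (Subgroup.inv_mem _ hc.2) hec.2⟩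
      have hct : c * t * c⁻¹ ∈ T := hT.conj_mem_of_mem hc.1 ht
      have h1 := he.apply_conj hcM (hTM ht)
      rw [heT _ hct, heT t ht] at h1
      calc t * (c⁻¹ * e c) = c⁻¹ * (c * t * c⁻¹) * e c := by group
        _ = c⁻¹ * (e c * t * (e c)⁻¹) * e c := by rw [h1]
        _ = c⁻¹ * e c * t := by group
    -- second displacement
    set L := centralizerIn S T ⊓ Subgroup.centralizer (Y : Set Ω) with hLdef
    have hLY : L ≤ centralizerIn S Y := fun x hx => ⟨hx.1.1, hx.2⟩
    have hX₀Z : Y ⊔ L ≤ centralizerIn S T := sup_le hYZ inf_le_left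
    have hX₀M : Y ⊔ L ≤ M := sup_le le_sup_left (hLY.trans le_sup_right)
    haveI := finite_of_le (hX₀M.trans hMS)
    have heL : ∀ x ∈ L, e x ∈ L := fun x hx => by
      refine ⟨⟨(heC x (hLY hx)).1, Subgroup.mem_centralizer_iff.mpr fun t ht => ?_⟩, (heC x (hLY hx)).2⟩
      have h1 := Subgroup.mem_centralizer_iff.mp hx.1.2 t ht
      have hxM : x ∈ M := hX₀M (Subgroup.mem_sup_right hx)
      rw [← heT t ht, ← he.apply_mul (hTM ht) hxM, ← he.apply_mul hxM (hTM ht), h1]
    have heX := sup_image he le_sup_left (hLY.trans le_sup_right) (image_self he le_sup_left heYY)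
      (image_self he (hLY.trans le_sup_right) heL)
    obtain ⟨R₄, he₄, -, -⟩ := he.restrict (sup_le hX₀M hTM)
    obtain ⟨δ, hδ, hδe⟩ := (isIso_centralizerSystem (hTS := hTS) he₄ heT hX₀Z
      (fun y => ⟨heX.surj, fun ⟨x, hx, hxy⟩ => hxy ▸ heX.mem hx⟩) hX₀Z).toAut
    have hδc : (orderOf δ).Coprime p := by
      refine hβc.coprime_dvd_left (orderOf_dvd_of_pow_eq_one (MulEquiv.ext fun x => Subtype.ext ?_))
      rw [coe_pow_apply hδe]
      exact (coe_pow_apply hee _ (Subgroup.inclusion hX₀M x)).symm.trans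
        (by rw [pow_orderOf_eq_one]; rfl)
    have hd' : ∀ x ∈ L, x⁻¹ * e x ∈ Y ⊓ Subgroup.centralizer (Y : Set Ω) := fun x hx => by
      refine ⟨hhyp ?_, Subgroup.mul_mem _ (Subgroup.inv_mem _ hx.2) (heL x hx).2⟩
      have := hyperfocal_gen_mem hX₀Z hδ hδc ⟨x, Subgroup.mem_sup_right hx⟩
      rwa [hδe] at this
    refine ⟨β, hβM, fun y => (hee _).trans (heY y), fun c hc => ?_⟩
    set d := (c : Ω)⁻¹ * e c with hd_def
    have hdL : d ∈ L := hd c hc
    set z₁ := d⁻¹ * e d with hz₁_def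
    have hz₁ := hd' d hdL
    have hcomm : Commute d z₁ := (Subgroup.mem_centralizer_iff.mp hdL.2 z₁ hz₁.1).symm
    have hiter : ∀ n : ℕ, ∃ w ∈ Y ⊓ Subgroup.centralizer (Y : Set Ω), e^[n] c = (c : Ω) * d ^ n * w := by
      intro n
      induction n with
      | zero => exact ⟨1, one_mem _, by simp⟩
      | succ n ih =>
        obtain ⟨w, hw, hwe⟩ := ih
        have hdn : d ^ n ∈ M := pow_mem (hX₀M (Subgroup.mem_sup_right hdL)) n
        have hepow : ∀ m : ℕ, e (d ^ m) = d ^ m * z₁ ^ m := fun m => by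
          induction m with
          | zero => simp [he.apply_one]
          | succ m ihm =>
            rw [pow_succ, he.apply_mul (pow_mem (hX₀M (Subgroup.mem_sup_right hdL)) m)
              (hX₀M (Subgroup.mem_sup_right hdL)), ihm, show e d = d * z₁ by rw [hz₁_def, mul_inv_cancel_left],
              pow_succ z₁, (hcomm.symm.pow_left m).mul_mul_mul_comm]
        refine ⟨z₁ ^ n * e w, Subgroup.mul_mem _ (pow_mem hz₁ n) ⟨heYY w hw.1, ?_⟩, ?_⟩
        · exact (heC w ⟨hYS hw.1, hw.2⟩).2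
        · rw [Function.iterate_succ_apply', hwe, he.apply_mul (mul_mem c.2 hdn) (Subgroup.mem_sup_left hw.1),
            he.apply_mul c.2 hdn, hepow, show e c = (c : Ω) * d by rw [hd_def, mul_inv_cancel_left], pow_succ']
          group
    obtain ⟨w, hw, hwe⟩ := hiter (orderOf β)
    rw [← coe_pow_apply hee, pow_orderOf_eq_one] at hwe
    have hdm : d ^ orderOf β ∈ Y ⊓ Subgroup.centralizer (Y : Set Ω) := by
      have : d ^ orderOf β = w⁻¹ := by
        apply eq_inv_of_mul_eq_one_left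
        apply mul_left_cancel (a := (c : Ω))
        rw [← mul_assoc, mul_one]
        exact hwe.symm
      rw [this]
      exact Subgroup.inv_mem _ hw
    have hdc : (orderOf β).Coprime (orderOf d) := by
      obtain ⟨i, hi⟩ := IsPGroup.iff_orderOf.mp hS ⟨d, hdL.1.1⟩
      rw [Subgroup.orderOf_mk] at hi
      rw [hi]
      exact hβc.pow_right i
    obtain ⟨j, hj⟩ := exists_pow_eq_self_of_coprime hdc
    rw [hee]
    show d ∈ _
    rw [← hj]
    exact pow_mem hdm j

end Cfsg.FusionSystem.SubCent
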