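import Cfsg.Agent.Lib.Fusion.SubCent.Extension

/-!
The centralizer of a normal subsystem and the focal subgroup of `C_F(T)`.
-/

set_option autoImplicit false
set_option linter.unusedSectionVars false
set_option linter.style.haveILetI false

namespace Cfsg.FusionSystem.SubCent

universe u

variable {Ω : Type u} [Group Ω] {S T : Subgroup Ω} {F : FusionSystem S} {E : FusionSystem T}
  {P Q R X : Subgroup Ω} {f g : Ω → Ω} {p : ℕ}

theorem centralizerHom_mono {X' : Subgroup Ω} (h : X' ≤ X) {φ : P →* Ω}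
    (hφ : φ ∈ F.centralizerHom X P) : φ ∈ F.centralizerHom X' P := by
  obtain ⟨h1, h2, h3, ψ, hψ, he, hfix⟩ := hφ
  have hC : centralizerIn S X ≤ centralizerIn S X' := fun x hx =>
    ⟨hx.1, Subgroup.centralizer_le h hx.2⟩
  exact ⟨h1, h2.trans hC, fun x => hC (h3 x), _, F.restrict_mem hψ (sup_le_sup_left h P),
    fun x => he x, fun x => hfix ⟨x, h x.2⟩⟩

/-- Elements of `C_S(T)` fixed by an extension of each map of `E`. -/
def weakSet (E : FusionSystem T) (F : FusionSystem S) : Set Ω :=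
  {x | x ∈ centralizerIn S T ∧
    ∀ (P : Subgroup Ω) (φ : P →* Ω), φ ∈ E.Hom P → φ ∈ F.centralizerHom (Subgroup.zpowers x) P}

/-- `C_S(E)`. -/
def centSub (E : FusionSystem T) (F : FusionSystem S) : Subgroup Ω := Subgroup.closure (weakSet E F)

theorem centSub_le : centSub E F ≤ centralizerIn S T :=
  (Subgroup.closure_le _).mpr fun _ hx => hx.1

variable [Finite S] [Fact p.Prime]

/-- Extension of an `E`-map of `P` fixing `x`, as a function. -/
theorem exists_fixing_iso {x : Ω} (hx : x ∈ weakSet E F) {R : Subgroup Ω} (hf : E.IsIso P R f) :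
    ∃ g, F.IsIso (P ⊔ Subgroup.zpowers x) (R ⊔ Subgroup.zpowers x) g ∧ (∀ y ∈ P, g y = f y) ∧ g x = x := by
  obtain ⟨φ, hφ, hr, hφe⟩ := hf
  obtain ⟨-, -, -, ψ, hψ, hψe, hψfix⟩ := hx.2 P φ hφ
  have hi := isIso_funOf hψ
  have e1 : ∀ y ∈ P, funOf ψ y = f y := fun y hy => by
    rw [← hφe ⟨y, hy⟩, ← hψe ⟨y, hy⟩]
    exact (funOf_apply ψ (Subgroup.inclusion le_sup_left ⟨y, hy⟩)).symm
  have e2 : ∀ y ∈ Subgroup.zpowers x, funOf ψ y = y := fun y hy =>
    (funOf_apply ψ (Subgroup.inclusion le_sup_right ⟨y, hy⟩)).symm.trans (hψfix ⟨y, hy⟩)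
  refine ⟨funOf ψ, sup_image hi le_sup_left le_sup_right (fun y => ?_)
    (image_self hi le_sup_right fun y hy => by rw [e2 y hy]; exact hy), e1, e2 x (Subgroup.mem_zpowers x)⟩
  constructor
  · intro hy
    obtain ⟨z, rfl⟩ := hr.ge hy
    exact ⟨z, z.2, (e1 z z.2).trans (hφe z).symm⟩
  · rintro ⟨z, hz, rfl⟩
    rw [e1 z hz, ← hφe ⟨z, hz⟩]
    exact hr.le ⟨_, rfl⟩

theorem image_zpowers {R W : Subgroup Ω} (h : F.IsIso R W f) {x : Ω} (hx : x ∈ R) :
    ∀ y, y ∈ Subgroup.zpowers (f x) ↔ ∃ z ∈ Subgroup.zpowers x, f z = y := by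
  have hz : ∀ k : ℤ, f (x ^ k) = f x ^ k := by
    intro k
    obtain ⟨φ, hφ, hr, he⟩ := h
    have := map_zpow φ ⟨x, hx⟩ k
    rw [he, he] at this
    simpa using this
  intro y
  constructor
  · rintro ⟨k, rfl⟩
    exact ⟨x ^ k, ⟨k, rfl⟩, hz k⟩
  · rintro ⟨_, ⟨k, rfl⟩, rfl⟩
    exact ⟨k, (hz k).symm⟩

theorem weakSet_invariant (hE : E.IsNormalIn F p) {a : Ω → Ω}
    (ha : F.IsIso (T ⊔ centralizerIn S T) (T ⊔ centralizerIn S T) a) (haT : ∀ x ∈ T, a x ∈ T)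
    {x : Ω} (hx : x ∈ weakSet E F) : a x ∈ weakSet E F := by
  obtain ⟨-, hF, hEi⟩ := id hE.1
  have hxW : x ∈ T ⊔ centralizerIn S T := Subgroup.mem_sup_right hx.1
  have haT' : F.IsIso T T a := isIso_self ha le_sup_left haT
  have haxZ : a x ∈ centralizerIn S T :=
    map_centralizer ha le_sup_left (image_self ha le_sup_left haT) hx.1 hxW
  refine ⟨haxZ, fun P φ hφ => ?_⟩
  have hPT := E.source_le hφ
  have hrT : φ.range ≤ T := E.range_le hφ
  obtain ⟨a', ha', hl, hr⟩ := ha.symm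
  obtain ⟨aT', haTi, haTl, haTr⟩ := haT'.symm
  have heq : ∀ y ∈ T, a' y = aT' y := fun y hy => by
    obtain ⟨z, hz, rfl⟩ := haT'.surj hy
    rw [hl z (Subgroup.mem_sup_left hz), haTl z hz]
  obtain ⟨P', hP', -, hP'm⟩ := haTi.restrict hPT
  obtain ⟨R', hR', -, hR'm⟩ := haTi.restrict hrT
  obtain ⟨f', hf', hf'e⟩ := hEi.iso_transport haTi le_rfl (isIso_funOf hφ) hPT hrT hP'm hR'm
  obtain ⟨g, hg, hge, hgx⟩ := exists_fixing_iso hx hf'
  -- back by `a`
  have hP'T : P' ≤ T := hf'.le_left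
  have hR'T : R' ≤ T := hf'.le_right
  have hzW : Subgroup.zpowers x ≤ T ⊔ centralizerIn S T := Subgroup.zpowers_le.mpr hxW
  have h1 : F.IsIso (P' ⊔ Subgroup.zpowers x) (P ⊔ Subgroup.zpowers (a x)) a :=
    sup_image ha (hP'T.trans le_sup_left) hzW (fun y => ⟨fun hy => ⟨aT' y, (hP'm _).mpr ⟨y, hy, rfl⟩,
      haTr y (hPT hy)⟩, fun ⟨z, hz, h⟩ => by
        obtain ⟨w, hw, rfl⟩ := (hP'm z).mp hz
        rw [haTr w (hPT hw)] at h; exact h ▸ hw⟩) (image_zpowers ha hxW)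
  have h2 : F.IsIso (R' ⊔ Subgroup.zpowers x) (φ.range ⊔ Subgroup.zpowers (a x)) a :=
    sup_image ha (hR'T.trans le_sup_left) hzW (fun y => ⟨fun hy => ⟨aT' y, (hR'm _).mpr ⟨y, hy, rfl⟩,
      haTr y (hrT hy)⟩, fun ⟨z, hz, h⟩ => by
        obtain ⟨w, hw, rfl⟩ := (hR'm z).mp hz
        rw [haTr w (hrT hw)] at h; exact h ▸ hw⟩) (image_zpowers ha hxW)
  obtain ⟨b, hb, hbl, -⟩ := h1.symm
  have htot := (hb.comp hg).comp h2
  refine mem_centralizerHom hEi.1 (Subgroup.zpowers_le.mpr haxZ) hφ htot (fun y => ?_) ?_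
  · show φ y = a (g (b y))
    have hy' : aT' y ∈ P' := (hP'm _).mpr ⟨y, y.2, rfl⟩
    have e1 : b y = aT' y := by
      conv_lhs => rw [← haTr y (hPT y.2)]
      exact hbl _ (Subgroup.mem_sup_left hy')
    rw [e1, hge _ hy', hf'e y y.2, haTr _ (hrT ((isIso_funOf hφ).mem y.2)), funOf_apply φ y]
  · intro z hz
    show a (g (b z)) = z
    obtain ⟨w, hw, rfl⟩ := (image_zpowers ha hxW z).mp hz
    rw [hbl w (Subgroup.mem_sup_right hw)]
    have : g w = w := by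
      have hle : Subgroup.closure {x} ≤ P' ⊔ Subgroup.zpowers x := by
        rw [← Subgroup.zpowers_eq_closure]; exact le_sup_right
      refine forall_closure_fixed hg hle (fun y hy => ?_) w (by rw [← Subgroup.zpowers_eq_closure]; exact hw)
      rw [Set.mem_singleton_iff.mp hy]; exact hgx
    rw [this]

theorem weakSet_fixed (hS : IsPGroup p S) (hE : E.IsNormalIn F p) {m : ℕ} (hPT : P ≤ T)
    (hP : F.IsFullyNormalized P) (h : Lift F P f) (hf : E.IsIso P P f) (hm : ¬ p ∣ m)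
    (hper : ∀ x ∈ P ⊔ centralizerIn S P, f^[m] x = x) {x : Ω} (hx : x ∈ weakSet E F) : f x = x := by
  have hF := hE.1.2.1
  obtain ⟨g, hg, hge, hgx⟩ := exists_fixing_iso hx hf
  exact fixed_of_weak hS hF (hF.isFullyCentralized_of_isFullyNormalized hS hP) h hm hper hg le_sup_left
    hge (Subgroup.mem_sup_right (Subgroup.mem_zpowers x))
    ⟨hx.1.1, Subgroup.centralizer_le hPT hx.1.2⟩ hgx

theorem hom_le_centSub (hS : IsPGroup p S) (hE : E.IsNormalIn F p) :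
    ∀ P, E.Hom P ⊆ F.centralizerHom (centSub E F) P :=
  hom_le_centralizerHom hS hE (fun _ hx => hx.1) (fun _ ha haT _ hx => weakSet_invariant hE ha haT hx)
    fun _ _ _ hPT hP h hf hm hper _ hx => weakSet_fixed hS hE hPT hP h hf hm hper hx

theorem le_centSub {Y : Subgroup Ω} (hY : Y ≤ centralizerIn S T)
    (h : ∀ P, E.Hom P ⊆ F.centralizerHom Y P) : Y ≤ centSub E F := fun y hy =>
  Subgroup.subset_closure ⟨hY hy, fun P _ hφ => centralizerHom_mono (Subgroup.zpowers_le.mpr hy) (h P hφ)⟩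

theorem mem_centSub (hS : IsPGroup p S) (hE : E.IsNormalIn F p) {x : Ω} (hx : x ∈ centSub E F) :
    x ∈ weakSet E F :=
  ⟨centSub_le hx, fun P _ hφ =>
    centralizerHom_mono (Subgroup.zpowers_le.mpr hx) (hom_le_centSub hS hE P hφ)⟩

/-- The quotients `x⁻¹ g x` over maps fixing `T`. -/
def focalSet (F : FusionSystem S) (T : Subgroup Ω) : Set Ω :=
  {y | ∃ (R Q : Subgroup Ω) (g : Ω → Ω) (x : Ω), F.IsIso R Q g ∧ T ≤ R ∧ (∀ t ∈ T, g t = t) ∧
    x ∈ R ∧ x ∈ centralizerIn S T ∧ y = x⁻¹ * g x}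

theorem focalSet_subset : focalSet F T ⊆ centralizerIn S T := by
  rintro _ ⟨R, Q, g, x, hg, hTR, hgT, hxR, hxC, rfl⟩
  have := map_centralizer hg hTR (fun z => ⟨fun hz => ⟨z, hz, hgT z hz⟩,
    fun ⟨u, hu, he⟩ => he ▸ (by rw [hgT u hu]; exact hu)⟩) hxC hxR
  exact (centralizerIn S T).mul_mem ((centralizerIn S T).inv_mem hxC) this

theorem focalSet_invariant (hT : T ≤ S) {a : Ω → Ω}
    (ha : F.IsIso (T ⊔ centralizerIn S T) (T ⊔ centralizerIn S T) a) (haT : ∀ x ∈ T, a x ∈ T)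
    {y : Ω} (hy : y ∈ focalSet F T) : a y ∈ focalSet F T := by
  obtain ⟨R, Q, g, x, hg, hTR, hgT, hxR, hxC, rfl⟩ := hy
  set W := T ⊔ centralizerIn S T
  have hxW : x ∈ W := Subgroup.mem_sup_right hxC
  have hgx : g x ∈ centralizerIn S T := map_centralizer hg hTR (fun z => ⟨fun hz => ⟨z, hz, hgT z hz⟩,
    fun ⟨u, hu, he⟩ => he ▸ (by rw [hgT u hu]; exact hu)⟩) hxC hxR
  have hgxW : g x ∈ W := Subgroup.mem_sup_right hgx
  have hTT := image_self ha le_sup_left haT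
  have h1 : F.IsIso (T ⊔ Subgroup.zpowers x) (T ⊔ Subgroup.zpowers (a x)) a :=
    sup_image ha le_sup_left (Subgroup.zpowers_le.mpr hxW) hTT (image_zpowers ha hxW)
  have h2 : F.IsIso (T ⊔ Subgroup.zpowers x) (T ⊔ Subgroup.zpowers (g x)) g :=
    sup_image hg hTR (Subgroup.zpowers_le.mpr hxR)
      (fun z => ⟨fun hz => ⟨z, hz, hgT z hz⟩, fun ⟨u, hu, he⟩ => he ▸ (by rw [hgT u hu]; exact hu)⟩)
      (image_zpowers hg hxR)
  have h3 : F.IsIso (T ⊔ Subgroup.zpowers (g x)) (T ⊔ Subgroup.zpowers (a (g x))) a :=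
    sup_image ha le_sup_left (Subgroup.zpowers_le.mpr hgxW) hTT (image_zpowers ha hgxW)
  obtain ⟨b, hb, hbl, -⟩ := h1.symm
  refine ⟨_, _, _, a x, (hb.comp h2).comp h3, le_sup_left, fun t ht => ?_,
    Subgroup.mem_sup_right (Subgroup.mem_zpowers _),
    map_centralizer ha le_sup_left hTT hxC hxW, ?_⟩
  · show a (g (b t)) = t
    obtain ⟨s, hs, rfl⟩ := (hTT t).mp ht
    rw [hbl s (Subgroup.mem_sup_left hs), hgT s hs]
  · show _ = (a x)⁻¹ * a (g (b (a x)))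
    rw [hbl x (Subgroup.mem_sup_right (Subgroup.mem_zpowers x)), ha.apply_mul (W.inv_mem hxW) hgxW,
      ha.apply_inv hxW]

theorem hom_le_focal (hS : IsPGroup p S) (hE : E.IsNormalIn F p) :
    ∀ P, E.Hom P ⊆ F.centralizerHom (Subgroup.closure (focalSet F T)) P :=
  hom_le_centralizerHom hS hE focalSet_subset
    (fun _ ha haT _ hy => focalSet_invariant hE.1.2.2.2.1.1 ha haT hy)
    fun P f m hPT hP h _ hm hper y hy => by
      obtain ⟨R, Q, g, x, hg, hTR, hgT, hxR, hxC, rfl⟩ := hy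
      exact fixed_div hS hE.1.2.1 (hE.1.2.1.isFullyCentralized_of_isFullyNormalized hS hP) h hm hper hg
        (hPT.trans hTR) (fun u hu => hgT u (hPT hu)) hxR ⟨hxC.1, Subgroup.centralizer_le hPT hxC.2⟩

/-- The focal subgroup of `C_F(T)` is centralized by `E`. -/
theorem focal_le_centSub (hS : IsPGroup p S) (hE : E.IsNormalIn F p)
    {D : FusionSystem (centralizerIn S T)} (hD : F.IsCentralizerSystem T D) :
    D.focalSubgroup ≤ centSub E F := by
  refine le_trans ?_ (le_centSub ((Subgroup.closure_le _).mpr focalSet_subset) (hom_le_focal hS hE))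
  apply (Subgroup.closure_le _).mpr
  rintro _ ⟨R, φ, x, hφ, rfl⟩
  obtain ⟨-, hR, -, ψ, hψ, hψe, hψfix⟩ := (hD R).le hφ
  refine Subgroup.subset_closure ⟨_, _, funOf ψ, x, isIso_funOf hψ, le_sup_right, fun t ht => ?_,
    Subgroup.mem_sup_left x.2, hR x.2, ?_⟩
  · exact (funOf_apply ψ (Subgroup.inclusion le_sup_right ⟨t, ht⟩)).symm.trans (hψfix ⟨t, ht⟩)
  · rw [← hψe x]
    exact congrArg _ (funOf_apply ψ (Subgroup.inclusion le_sup_left x))

end Cfsg.FusionSystem.SubCent
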