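import Cfsg.Agent.Lib.Fusion.SubCent.Commute

/-!
Maps of a normal subsystem extend fixing suitable subsets of `C_S(T)`.
-/

set_option autoImplicit false
set_option linter.unusedSectionVars false
set_option linter.style.haveILetI false

namespace Cfsg.FusionSystem.SubCent

universe u

variable {Ω : Type u} [Group Ω] {S T : Subgroup Ω} {F : FusionSystem S} {E : FusionSystem T}
  {P Q R X : Subgroup Ω} {f g : Ω → Ω} {p : ℕ}

/-- The automorphisms of `P` with a lift. -/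
def liftable [Finite S] (F : FusionSystem S) (P : Subgroup Ω) (hP : P ≤ S) : Subgroup (MulAut P) where
  carrier := {α | ∃ f, Lift F P f ∧ ∀ x : P, ((α x : P) : Ω) = f x}
  one_mem' := by
    refine ⟨fun x => x, ⟨IsIso.refl F (ext_le hP), fun x hx => hx, fun c _ => by simp⟩, fun x => rfl⟩
  mul_mem' := by
    rintro a b ⟨f, hf, hfe⟩ ⟨g, hg, hge⟩
    exact ⟨_, hg.comp hf, fun x => by rw [MulAut.mul_apply, hfe, hge]⟩
  inv_mem' := by
    rintro a ⟨f, hf, hfe⟩
    obtain ⟨g, hg, hl, -⟩ := hf.exists_symm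
    refine ⟨g, hg, fun x => ?_⟩
    conv_rhs => rw [← MulAut.apply_inv_self P a x, hfe]
    exact (hl _ (Subgroup.mem_sup_left (SetLike.coe_mem _))).symm

variable [Finite S] [Fact p.Prime]

theorem liftable_conj (hS : IsPGroup p S) (hF : F.IsSaturated p) (hP : F.IsFullyCentralized P)
    {α β : MulAut P} (hα : α ∈ liftable F P hP.1) (hβ : β ∈ F.autGroup P) :
    β * α * β⁻¹ ∈ liftable F P hP.1 := by
  obtain ⟨f, hf, hfe⟩ := hα
  obtain ⟨b₀, hb₀, hb₀e⟩ := isIso_of_aut hP.1 hβ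
  obtain ⟨b, hb, hbe⟩ := extend_ext hS hF hP hb₀
  have hbP : ∀ x ∈ P, b x ∈ P := fun x hx => by rw [hbe x hx]; exact hb₀.mem hx
  obtain ⟨b', hb', hl, hr⟩ := hb.symm
  have hb'P : ∀ x ∈ P, b' x ∈ P := by
    intro x hx
    obtain ⟨y, hy, rfl⟩ := (image_self hb le_sup_left hbP x).mp hx
    rw [hl y (Subgroup.mem_sup_left hy)]; exact hy
  refine ⟨fun x => b (f (b' x)), ⟨(hb'.comp hf.iso).comp hb,
    fun x hx => hbP _ (hf.pres _ (hb'P x hx)), fun c hc => ?_⟩, fun x => ?_⟩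
  · have hcW : c ∈ P ⊔ centralizerIn S P := Subgroup.mem_sup_right hc
    have hc' : b' c ∈ centralizerIn S P :=
      map_centralizer hb' le_sup_left (image_self hb' le_sup_left hb'P) hc hcW
    have hd := hf.triv _ hc'
    have e : f (b' c) = b' c * ((b' c)⁻¹ * f (b' c)) := (mul_inv_cancel_left _ _).symm
    show c⁻¹ * b (f (b' c)) ∈ P
    rw [e, hb.apply_mul (hb'.mem hcW) (Subgroup.mem_sup_left hd), hr c hcW, inv_mul_cancel_left]
    exact hbP _ hd
  · have e1 : ((β⁻¹ x : P) : Ω) = b' x := by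
      conv_rhs => rw [← MulAut.apply_inv_self P β x, hb₀e, ← hbe _ (SetLike.coe_mem _)]
      exact (hl _ (Subgroup.mem_sup_left (SetLike.coe_mem _))).symm
    rw [MulAut.mul_apply, MulAut.mul_apply, hb₀e, hfe, e1]
    exact (hbe _ (hf.pres _ (hb'P _ x.2))).symm

theorem autInducedBy_le_liftable (hT : F.StronglyClosed T) (hP : P ≤ T)
    (hC : centralizerIn T P ≤ P) : autInducedBy T P ≤ liftable F P (hP.trans hT.1) := by
  intro α hα
  obtain ⟨t, ht, htn, he⟩ := mem_autInducedBy_iff.mp hα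
  have hPS := hP.trans hT.1
  have hfull : F.IsIso S S (fun x => t * x * t⁻¹) :=
    isIso_conj_normalizer le_rfl (hT.1 ht) (Subgroup.le_normalizer (hT.1 ht))
  have hPP : ∀ x ∈ P, t * x * t⁻¹ ∈ P := fun x hx => (Subgroup.mem_normalizer_iff.mp htn x).mp hx
  have hCC : ∀ c ∈ centralizerIn S P, t * c * t⁻¹ ∈ centralizerIn S P := fun c hc =>
    map_centralizer hfull hPS (image_self hfull hPS hPP) hc (centralizerIn_le hc)
  refine ⟨fun x => t * x * t⁻¹, ⟨sup_image hfull hPS centralizerIn_le (image_self hfull hPS hPP)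
    (image_self hfull centralizerIn_le hCC), hPP, fun c hc => ?_⟩, he⟩
  apply hC
  have h1 : c⁻¹ * t * c ∈ T := by
    have := (Subgroup.mem_normalizer_iff.mp (hT.le_normalizer (centralizerIn_le hc : c ∈ S))
      (c⁻¹ * t * c)).mpr (by simpa [mul_assoc] using ht)
    exact this
  have h2 : c⁻¹ * (t * c * t⁻¹) ∈ T := by
    have := T.mul_mem h1 (T.inv_mem ht)
    simpa [mul_assoc] using this
  exact ⟨h2, ((centralizerIn S P).mul_mem ((centralizerIn S P).inv_mem hc) (hCC c hc)).2⟩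

theorem autGroup_le_liftable (hE : E.IsNormalIn F p) :
    E.autGroup T ≤ liftable F T hE.1.2.2.2.1.1 := by
  intro α hα
  obtain ⟨β, hβ, hβT, hβC⟩ := hE.2 α hα
  obtain ⟨b, hb, hbe⟩ := isIso_of_aut (ext_le hE.1.2.2.2.1.1) hβ
  have e : ∀ x : T, ((α x : T) : Ω) = b x := fun x => (hβT x).symm.trans (hbe _)
  refine ⟨b, ⟨hb, fun x hx => by rw [← e ⟨x, hx⟩]; exact SetLike.coe_mem _, fun c hc => ?_⟩, e⟩
  have := (hβC ⟨c, Subgroup.mem_sup_right hc⟩ hc).1
  rwa [hbe] at this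

/-- The maps of `E` with an extension fixing `X` elementwise. -/
def fixHomSystem (E : FusionSystem T) (F : FusionSystem S) (hsub : E.IsSubsystemOf F)
    (hX : X ≤ centralizerIn S T) (hT : T ≤ S) : FusionSystem T where
  Hom P := {φ | φ ∈ E.Hom P ∧ φ ∈ F.centralizerHom X P}
  le_of_mem h := E.le_of_mem h.1
  injective_of_mem h := E.injective_of_mem h.1
  conj_mem := by
    intro P t hP ht
    have hXS : X ≤ S := hX.trans centralizerIn_le
    have htC : T ≤ centralizerIn S X := fun y hy => ⟨hT hy, Subgroup.mem_centralizer_iff.mpr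
      fun x hx => (Subgroup.mem_centralizer_iff.mp (hX hx).2 y hy).symm⟩
    exact ⟨E.conj_mem hP ht, (F.centralizerSystem X hXS).conj_mem (hP.trans htC) (htC ht)⟩
  comp_mem := by
    intro P Q φ ψ hφ hψ h
    exact ⟨E.comp_mem hφ.1 hψ.1 h, (F.centralizerSystem X (hX.trans centralizerIn_le)).comp_mem hφ.2 hψ.2 h⟩
  inv_mem := by
    intro P φ hφ
    obtain ⟨ψ, hψ, he⟩ := E.inv_mem hφ.1
    obtain ⟨ψ', hψ', he'⟩ := (F.centralizerSystem X (hX.trans centralizerIn_le)).inv_mem hφ.2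
    refine ⟨ψ, ⟨hψ, ?_⟩, he⟩
    have : ψ = ψ' := MonoidHom.ext fun ⟨_, x, rfl⟩ => (he x).trans (he' x).symm
    rw [this]; exact hψ'

/-- Membership in `C_F(X)` from an isomorphism fixing `X`. -/
theorem mem_centralizerHom (hsub : E.IsSubsystemOf F) (hX : X ≤ centralizerIn S T) {φ : P →* Ω}
    (hφ : φ ∈ E.Hom P) {R : Subgroup Ω} (hg : F.IsIso (P ⊔ X) R g) (he : ∀ x : P, φ x = g x)
    (hfix : ∀ x ∈ X, g x = x) : φ ∈ F.centralizerHom X P := by
  have hTC : ∀ y ∈ T, y ∈ S → y ∈ centralizerIn S X := fun y hy hyS => ⟨hyS,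
    Subgroup.mem_centralizer_iff.mpr fun x hx => (Subgroup.mem_centralizer_iff.mp (hX hx).2 y hy).symm⟩
  have hφF := hsub P hφ
  obtain ⟨ψ, hψ, -, hψe⟩ := hg
  refine ⟨hφF, fun y hy => hTC y (E.source_le hφ hy) (F.source_le hφF hy),
    fun x => hTC _ (E.apply_mem hφ x) (F.apply_mem hφF x), ψ, hψ, fun x => ?_, fun x => ?_⟩
  · rw [hψe, he]; rfl
  · exact (hψe _).trans (hfix x x.2)

theorem isFullyNormalized_of_stronglyClosed (hT : F.StronglyClosed T) : F.IsFullyNormalized T := by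
  refine ⟨hT.1, fun Q _ => ?_⟩
  have e : normalizerIn S T = S := le_antisymm normalizerIn_le fun s hs => ⟨hs, hT.le_normalizer hs⟩
  rw [e]
  exact Nat.card_le_card_of_injective (Subgroup.inclusion (normalizerIn_le (S := S) (P := Q)))
    (Subgroup.inclusion_injective _)

/-- The step at a fully normalised centric subgroup. -/
theorem autGroup_le_fix (hS : IsPGroup p S) (hE : E.IsNormalIn F p) {𝒳 : Set Ω}
    (h𝒳 : Subgroup.closure 𝒳 ≤ centralizerIn S T)
    (hfix : ∀ (P : Subgroup Ω) (f : Ω → Ω) (m : ℕ), P ≤ T → F.IsFullyNormalized P → Lift F P f →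
      E.IsIso P P f → ¬ p ∣ m → (∀ x ∈ P ⊔ centralizerIn S P, f^[m] x = x) → ∀ x ∈ 𝒳, f x = x)
    (hPT : P ≤ T) (hPn : F.IsFullyNormalized P) (hPc : E.IsCentric P)
    (hbig : ∀ Q : Subgroup Ω, Nat.card P < Nat.card Q →
      E.Hom Q ⊆ (fixHomSystem E F hE.1.2.2.1 h𝒳 hE.1.2.2.2.1.1).Hom Q) :
    E.autGroup P ≤ (fixHomSystem E F hE.1.2.2.1 h𝒳 hE.1.2.2.2.1.1).autGroup P := by
  obtain ⟨hEs, hF, hEi⟩ := id hE.1
  have hT := hEi.2.1
  haveI := finite_of_le hT.1
  haveI := finite_autGroup (F := E) hPT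
  have hTp : IsPGroup p T := hS.to_le hT.1
  set K := fixHomSystem E F hE.1.2.2.1 h𝒳 hE.1.2.2.2.1.1
  have hPfc := hF.isFullyCentralized_of_isFullyNormalized hS hPn
  have hEn : E.IsFullyNormalized P := hPn.of_invariant hEi hS hF hPT
  -- liftable elements of order prime to `p` fix `𝒳`
  have hprime : ∀ α ∈ E.autGroup P, α ∈ liftable F P hPfc.1 → ¬ p ∣ orderOf α →
      α ∈ K.autGroup P := by
    intro α hα ⟨f, hf, hfe⟩ hord
    haveI := finite_mulAut_of_le hPfc.1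
    obtain ⟨g, hg, hgf, m, hm, hper⟩ := hf.exists_pprime hord fun x hx => by
      rw [← coe_pow_apply hfe (orderOf α) ⟨x, hx⟩, pow_orderOf_eq_one]; rfl
    obtain ⟨φ, hφ, hφr, hφe⟩ := E.exists_map_of_mem_autGroup hPT hα
    have heq : ∀ x : P, φ x = g x := fun x => by rw [hφe, hfe, hgf x x.2]
    have hEiso : E.IsIso P P g := ⟨φ, hφ, hφr, heq⟩
    have hCP : Subgroup.closure 𝒳 ≤ centralizerIn S P := fun x hx =>
      ⟨(h𝒳 hx).1, Subgroup.centralizer_le hPT (h𝒳 hx).2⟩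
    have hXfix := forall_closure_fixed hg.iso (hCP.trans le_sup_right)
      (hfix P g m hPT hPn hg hEiso hm hper)
    obtain ⟨Q, hQ, -, -⟩ := hg.iso.restrict (sup_le_sup_left hCP P)
    exact K.mem_autGroup_of_map (φ := φ)
      ⟨hφ, mem_centralizerHom hEi.1 h𝒳 hφ hQ heq hXfix⟩ fun x => (hφe x).symm
  set G := E.autGroup P with hGdef
  obtain ⟨-, U, hU⟩ : E.IsFullyAutomized p P := hEs.isFullyAutomized_of_isFullyNormalized hTp hEn
  let KK : Subgroup G := (K.autGroup P).subgroupOf G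
  have hUK : (U : Subgroup G) ≤ KK := by
    rw [hU]
    exact fun a ha => K.autInducedBy_le_autGroup hPT ha
  suffices htop : KK = ⊤ by exact Subgroup.subgroupOf_eq_top.mp htop
  rcases eq_or_lt_of_le hPT with hPeq | hlt
  · refine eq_top_of_sylow_of_pprime KK U hUK fun a ha => ?_
    refine hprime a a.2 ?_ (by rwa [Subgroup.orderOf_coe])
    subst hPeq
    exact autGroup_le_liftable hE a.2
  let L' : Subgroup G := (liftable F P hPfc.1).subgroupOf G
  have hL'n : L'.Normal := ⟨fun a ha b => by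
    have := liftable_conj hS hF hPfc (α := (a : MulAut P)) (β := (b : MulAut P)) ha
      (hEi.1.isIso_autGroup hPT b.2)
    simpa [L', Subgroup.mem_subgroupOf] using this⟩
  have hUL : (U : Subgroup G) ≤ L' := by
    rw [hU]
    exact fun a ha => autInducedBy_le_liftable hT hPT hPc.centralizerIn_le_self ha
  have hO : Subgroup.normalClosure ((U : Subgroup G) : Set G) ≤ L' :=
    Subgroup.normalClosure_le_normal hUL
  set O := Subgroup.normalClosure ((U : Subgroup G) : Set G)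
  have hUO : (U : Subgroup G) ≤ O := fun a ha => Subgroup.subset_normalClosure ha
  have hOK : O ≤ KK := by
    refine Subgroup.subgroupOf_eq_top.mp (eq_top_of_sylow_of_pprime (KK.subgroupOf O) (U.subtype hUO)
      ?_ fun a ha => ?_)
    · rw [Sylow.coe_subtype]
      exact fun a ha => Subgroup.mem_subgroupOf.mpr (hUK ha)
    · exact hprime ((a : G) : MulAut P) (a : G).2 (hO a.2)
        (((Subgroup.orderOf_coe (a : G)).trans (Subgroup.orderOf_coe a)).symm ▸ ha)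
  have htop := (U.subtype hUO).normalizer_sup_eq_top
  rw [Sylow.coe_subtype, Subgroup.map_subgroupOf_eq_of_le hUO] at htop
  rw [eq_top_iff, ← htop]
  refine sup_le (fun n hn => ?_) hOK
  obtain ⟨ψ, hψ, hψe⟩ := exists_extension_of_normalizes (γ := (n : MulAut P)) (M := normalizerIn T P)
    (hEs.isReceptive_of_isFullyNormalized hTp hEn) n.2 le_rfl (by
      intro t ht htn
      let c : G := ⟨P.normalizerMonoidHom ⟨t, htn⟩,
        autInducedBy_le_autGroup hPT (mem_autInducedBy_iff.mpr ⟨t, ht.1, htn, fun _ => rfl⟩)⟩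
      have hc : c ∈ (U : Subgroup G) :=
        hU.ge (mem_autInducedBy_iff.mpr ⟨t, ht.1, htn, fun _ => rfl⟩ : (c : MulAut P) ∈ autInducedBy T P)
      exact hU.le ((Subgroup.mem_normalizer_iff.mp hn c).mp hc))
  haveI := finite_of_le (sup_le hPT normalizerIn_le : P ⊔ normalizerIn T P ≤ T)
  have hcard : Nat.card P < Nat.card ↥(P ⊔ normalizerIn T P) :=
    card_lt_of_lt (lt_of_lt_of_le (lt_normalizerIn hTp hlt) le_sup_right)
  exact K.mem_autGroup_of_map (K.restrict_mem (hbig _ hcard hψ) le_sup_left) fun x => (hψe x).symm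

/-- Maps of a normal subsystem extend fixing a suitable subset of `C_S(T)`. -/
theorem hom_le_centralizerHom (hS : IsPGroup p S) (hE : E.IsNormalIn F p) {𝒳 : Set Ω}
    (h𝒳 : 𝒳 ⊆ centralizerIn S T)
    (hinv : ∀ a : Ω → Ω, F.IsIso (T ⊔ centralizerIn S T) (T ⊔ centralizerIn S T) a →
      (∀ x ∈ T, a x ∈ T) → ∀ x ∈ 𝒳, a x ∈ 𝒳)
    (hfix : ∀ (P : Subgroup Ω) (f : Ω → Ω) (m : ℕ), P ≤ T → F.IsFullyNormalized P → Lift F P f →
      E.IsIso P P f → ¬ p ∣ m → (∀ x ∈ P ⊔ centralizerIn S P, f^[m] x = x) → ∀ x ∈ 𝒳, f x = x) :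
    ∀ P, E.Hom P ⊆ F.centralizerHom (Subgroup.closure 𝒳) P := by
  obtain ⟨hEs, hF, hEi⟩ := id hE.1
  have hT := hEi.2.1
  haveI := finite_of_le hT.1
  have hTp : IsPGroup p T := hS.to_le hT.1
  have hX : Subgroup.closure 𝒳 ≤ centralizerIn S T := (Subgroup.closure_le _).mpr h𝒳
  set X := Subgroup.closure 𝒳 with hXdef
  suffices h : E ≤ fixHomSystem E F hE.1.2.2.1 hX hE.1.2.2.2.1.1 from fun P φ hφ => (h P hφ).2
  set K := fixHomSystem E F hE.1.2.2.1 hX hE.1.2.2.2.1.1 with hKdef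
  have hTn := isFullyNormalized_of_stronglyClosed hT
  refine hEs.le_of_autGroup_le' hTp K fun P hP hbig => ?_
  rcases hP with rfl | hP
  · exact autGroup_le_fix hS hE hX hfix le_rfl hTn isCentric_self hbig
  have hPT : P ≤ T := hP.1.1
  have hlt : P < T := hP.lt hTp hEs
  have hPS := hPT.trans hT.1
  obtain ⟨P0, hPP0, hP0⟩ := F.exists_isFullyNormalized hPS
  obtain ⟨φ, hφ, hφr, ψ, hψ, -, hψe⟩ := hF.exists_map_to_fullyNormalized hS hP0 hPP0
  set H := funOf ψ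
  have hPφ : F.IsIso P P0 H := by
    refine ⟨φ, hφ, hφr, fun x => ?_⟩
    rw [← hψe x (le_normalizerIn hPS x.2)]
    exact funOf_apply ψ _
  have hVle : normalizerIn T P ≤ normalizerIn S P := fun x hx => ⟨hT.1 hx.1, hx.2⟩
  obtain ⟨V', hV, -, -⟩ := (isIso_funOf hψ).restrict hVle
  set V := normalizerIn T P
  have hPV : P ≤ V := le_normalizerIn hPT
  have hP0T : P0 ≤ T := hT.iso_le hPφ hPT
  have hP0c : E.IsCentric P0 := hEi.isCentric_of_isIso hP.1 hPφ
  haveI := finite_of_le (normalizerIn_le : V ≤ T)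
  have hPVlt : P < V := lt_normalizerIn hTp hlt
  have hcardP0 : Nat.card P0 = Nat.card P := hPP0.card_eq.symm
  have hcore := autGroup_le_fix hS hE hX hfix hP0T hP0 hP0c
    (fun Q hQ => hbig Q (hcardP0 ▸ hQ))
  obtain ⟨a, Q0, e, ha, he, hHae, -⟩ := hEi.frattini_iso hV normalizerIn_le
  -- extension of `e`
  obtain ⟨φe, hφe, -, hφee⟩ := id he
  obtain ⟨-, -, -, -, ε₀, hε₀, hε₀e, hε₀fix⟩ := hbig V (card_lt_of_lt hPVlt) hφe
  set ε := funOf ε₀
  have hεV : ∀ x ∈ V, ε x = e x := fun x hx => by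
    rw [← hφee ⟨x, hx⟩, ← hε₀e ⟨x, hx⟩]
    exact (funOf_apply ε₀ (Subgroup.inclusion le_sup_left ⟨x, hx⟩)).symm
  have hεX : ∀ x ∈ X, ε x = x := fun x hx =>
    (funOf_apply ε₀ (Subgroup.inclusion le_sup_right ⟨x, hx⟩)).symm.trans (hε₀fix ⟨x, hx⟩)
  have hεiso := isIso_funOf hε₀
  -- extension of `a`
  obtain ⟨a', ha', ha'e⟩ := extend_ext hS hF (hF.isFullyCentralized_of_isFullyNormalized hS hTn) ha
  have ha'X : ∀ x ∈ X, a' x ∈ X := by
    intro x hx
    rw [hXdef] at hx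
    induction hx using Subgroup.closure_induction with
    | mem y hy => exact Subgroup.subset_closure (hinv a' ha' (fun z hz => by rw [ha'e z hz]; exact ha.mem hz) y hy)
    | one => rw [ha'.apply_one]; exact X.one_mem
    | mul u v hu hv ihu ihv =>
      rw [ha'.apply_mul (Subgroup.mem_sup_right (hX hu)) (Subgroup.mem_sup_right (hX hv))]
      exact X.mul_mem ihu ihv
    | inv u hu ihu => rw [ha'.apply_inv (Subgroup.mem_sup_right (hX hu))]; exact X.inv_mem ihu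
  -- the composite
  obtain ⟨Q1, hQ1, -, hQ1m⟩ := he.restrict hPV
  have hQ1T : Q1 ≤ T := hQ1.le_right
  have hε' : F.IsIso (P ⊔ X) (Q1 ⊔ X) ε := by
    refine sup_image hεiso (hPV.trans le_sup_left) le_sup_right (fun y => (hQ1m y).trans ?_)
      (image_self hεiso le_sup_right fun x hx => by rw [hεX x hx]; exact hx)
    exact ⟨fun ⟨x, hx, h⟩ => ⟨x, hx, (hεV x (hPV hx)).trans h⟩,
      fun ⟨x, hx, h⟩ => ⟨x, hx, (hεV x (hPV hx)).symm.trans h⟩⟩
  have ha'' : F.IsIso (Q1 ⊔ X) (P0 ⊔ X) a' := by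
    refine sup_image ha' (hQ1T.trans le_sup_left) (hX.trans le_sup_right) (fun y => ⟨fun hy => ?_, ?_⟩)
      (image_self ha' (hX.trans le_sup_right) ha'X)
    · obtain ⟨x, hx, rfl⟩ := hPφ.surj hy
      exact ⟨e x, (hQ1m _).mpr ⟨x, hx, rfl⟩,
        (ha'e _ (hQ1T ((hQ1m _).mpr ⟨x, hx, rfl⟩))).trans (hHae x (hPV hx)).symm⟩
    · rintro ⟨z, hz, rfl⟩
      obtain ⟨x, hx, rfl⟩ := (hQ1m z).mp hz
      rw [ha'e _ (hQ1T hz), ← hHae x (hPV hx)]
      exact hPφ.mem hx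
  have hχ := hε'.comp ha''
  have hχP : ∀ x ∈ P, a' (ε x) = H x := fun x hx => by
    rw [hεV x (hPV hx), ha'e _ (hQ1T ((hQ1m _).mpr ⟨x, hx, rfl⟩)), ← hHae x (hPV hx)]
  obtain ⟨χ', hχ', hχl, -⟩ := hχ.symm
  intro β hβ
  obtain ⟨bfun, hb, hbe⟩ := isIso_of_aut hPT hβ
  obtain ⟨f', hf', hf'e⟩ := hEi.iso_transport hV normalizerIn_le hb hPV hPV (P' := P0) (Q' := P0)
    (fun y => ⟨fun hy => hPφ.surj hy, fun ⟨x, hx, h⟩ => h ▸ hPφ.mem hx⟩)
    (fun y => ⟨fun hy => hPφ.surj hy, fun ⟨x, hx, h⟩ => h ▸ hPφ.mem hx⟩)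
  obtain ⟨β0, hβ0, hβ0e⟩ := hf'.toAut
  obtain ⟨φ0, hφ0, -, hφ0e⟩ := K.exists_map_of_mem_autGroup hP0T (hcore hβ0)
  obtain ⟨-, -, -, -, g0, hg0, hg0e, hg0fix⟩ := hφ0
  have hg : ∀ x ∈ P0, funOf g0 x = f' x := fun x hx => by
    rw [← hβ0e ⟨x, hx⟩, ← hφ0e ⟨x, hx⟩, ← hg0e ⟨x, hx⟩]
    exact (funOf_apply g0 (Subgroup.inclusion le_sup_left ⟨x, hx⟩)).symm
  have hgX : ∀ x ∈ X, funOf g0 x = x := fun x hx =>
    (funOf_apply g0 (Subgroup.inclusion le_sup_right ⟨x, hx⟩)).symm.trans (hg0fix ⟨x, hx⟩)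
  have hg0iso : F.IsIso (P0 ⊔ X) (P0 ⊔ X) (funOf g0) :=
    sup_image (isIso_funOf hg0) le_sup_left le_sup_right
      (image_self (isIso_funOf hg0) le_sup_left fun x hx => by rw [hg x hx]; exact hf'.mem hx)
      (image_self (isIso_funOf hg0) le_sup_right fun x hx => by rw [hgX x hx]; exact hx)
  have htot := (hχ.comp hg0iso).comp hχ'
  obtain ⟨φβ, hφβ, -, hφβe⟩ := E.exists_map_of_mem_autGroup hPT hβ
  refine K.mem_autGroup_of_map (φ := φβ) ⟨hφβ, mem_centralizerHom hEi.1 hX hφβ htot (fun x => ?_)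
    (fun x hx => ?_)⟩ fun x => (hφβe x).symm
  · show φβ x = χ' (funOf g0 (a' (ε x)))
    rw [hφβe, hbe, hχP x x.2, hg _ (hPφ.mem x.2), hf'e x x.2]
    exact ((congrArg χ' (hχP _ (hb.mem x.2))).symm.trans
      (hχl _ (Subgroup.mem_sup_left (hb.mem x.2)))).symm
  · show χ' (funOf g0 (a' (ε x))) = x
    rw [hgX _ (by rw [hεX x hx]; exact ha'X x hx), hχl x (Subgroup.mem_sup_right hx)]

end Cfsg.FusionSystem.SubCent
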