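import Cfsg.Agent.Lib.Fusion.SubCent.Centralizer

/-!
The centralizer of a normal subsystem is strongly closed.
-/

set_option autoImplicit false
set_option linter.unusedSectionVars false
set_option linter.style.haveILetI false

namespace Cfsg.FusionSystem.SubCent

universe u

variable {Ω : Type u} [Group Ω] {S T : Subgroup Ω} {F : FusionSystem S} {E : FusionSystem T}
  {P Q R X : Subgroup Ω} {f g : Ω → Ω} {p : ℕ}

/-- Automorphisms preserving the set `U` of `R` and trivial modulo it. -/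
theorem mem_normal_stab [Finite S] (hR : R ≤ S) {U : Subgroup Ω}
    (hU : ∀ β ∈ F.autGroup R, ∀ r : R, (r : Ω) ∈ U → ((β r : R) : Ω) ∈ U) :
    ∃ J : Subgroup (F.autGroup R), J.Normal ∧
      ∀ g : F.autGroup R, g ∈ J ↔ ∀ r : R, (r : Ω)⁻¹ * ((g : MulAut R) r : R) ∈ U := by
  refine ⟨{ carrier := {g | ∀ r : R, (r : Ω)⁻¹ * ((g : MulAut R) r : R) ∈ U}
            one_mem' := fun r => by simp
            mul_mem' := fun {a b} ha hb r => by
              have := U.mul_mem (hb r) (ha ((b : MulAut R) r))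
              simpa [mul_assoc] using this
            inv_mem' := fun {a} ha r => by
              have := U.inv_mem (ha (((a⁻¹ : F.autGroup R) : MulAut R) r))
              simpa using this }, ⟨fun k hk g r => ?_⟩, fun g => Iff.rfl⟩
  obtain ⟨s, hs⟩ : ∃ s, ((g⁻¹ : F.autGroup R) : MulAut R) r = s := ⟨_, rfl⟩
  have hr : r = (g : MulAut R) s := by rw [← hs]; simp
  have h1 := hU g g.2 (s⁻¹ * (k : MulAut R) s) (by simpa using hk s)
  have e : ((g * k * g⁻¹ : F.autGroup R) : MulAut R) r = (g : MulAut R) ((k : MulAut R) s) := by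
    rw [← hs]; rfl
  rw [e, hr]
  simpa using h1

variable [Finite S] [Fact p.Prime]

theorem conj_mem_centSub (hE : E.IsNormalIn F p) {s : Ω} (hs : s ∈ S) {x : Ω}
    (hx : x ∈ weakSet E F) : s * x * s⁻¹ ∈ weakSet E F := by
  have hT := hE.1.2.2.2.1
  have hfull : F.IsIso S S (fun x => s * x * s⁻¹) :=
    isIso_conj_normalizer le_rfl hs (Subgroup.le_normalizer hs)
  have hTT : ∀ t ∈ T, s * t * s⁻¹ ∈ T := fun t ht =>
    (Subgroup.mem_normalizer_iff.mp (hT.le_normalizer hs) t).mp ht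
  refine weakSet_invariant hE (a := fun x => s * x * s⁻¹)
    (sup_image hfull hT.1 centralizerIn_le (image_self hfull hT.1 hTT)
      (image_self hfull centralizerIn_le fun c hc =>
        map_centralizer hfull hT.1 (image_self hfull hT.1 hTT) hc (centralizerIn_le hc))) hTT hx

/-- A map defined on `T` preserves the set. -/
theorem weakSet_move (hS : IsPGroup p S) (hE : E.IsNormalIn F p) {R Q : Subgroup Ω}
    (hg : F.IsIso R Q g) (hTR : T ≤ R) {x : Ω} (hxR : x ∈ R) (hx : x ∈ centSub E F) :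
    g x ∈ centSub E F := by
  have hT := hE.1.2.2.2.1
  have hF := hE.1.2.1
  have hxw := mem_centSub hS hE hx
  have hgT : ∀ t ∈ T, g t ∈ T := fun t ht => hT.iso_mem hg (hTR ht) ht
  have hgTT : F.IsIso T T g := isIso_self hg hTR hgT
  have hTfc := hF.isFullyCentralized_of_isFullyNormalized hS (isFullyNormalized_of_stronglyClosed hT)
  obtain ⟨a, ha, hae⟩ := extend_ext hS hF hTfc hgTT
  have haT : ∀ t ∈ T, a t ∈ T := fun t ht => by rw [hae t ht]; exact hgT t ht
  have hax := weakSet_invariant hE ha haT hxw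
  -- `g x` and `a x` differ by an element of the focal set
  set W := T ⊔ centralizerIn S T
  have hxW : x ∈ W := Subgroup.mem_sup_right hxw.1
  have h1 : F.IsIso (T ⊔ Subgroup.zpowers x) (T ⊔ Subgroup.zpowers (a x)) a :=
    sup_image ha le_sup_left (Subgroup.zpowers_le.mpr hxW) (image_self ha le_sup_left haT)
      (image_zpowers ha hxW)
  have h2 : F.IsIso (T ⊔ Subgroup.zpowers x) (T ⊔ Subgroup.zpowers (g x)) g :=
    sup_image hg hTR (Subgroup.zpowers_le.mpr hxR) (image_self hg hTR hgT) (image_zpowers hg hxR)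
  obtain ⟨b, hb, hbl, -⟩ := h1.symm
  have hmem : (a x)⁻¹ * g x ∈ focalSet F T := by
    refine ⟨_, _, _, a x, hb.comp h2, le_sup_left, fun t ht => ?_,
      Subgroup.mem_sup_right (Subgroup.mem_zpowers _), hax.1, ?_⟩
    · show g (b t) = t
      obtain ⟨s, hs, rfl⟩ := (image_self ha le_sup_left haT t).mp ht
      rw [hbl s (Subgroup.mem_sup_left hs)]
      exact (hae s hs).symm
    · show _ = (a x)⁻¹ * g (b (a x))
      rw [hbl x (Subgroup.mem_sup_right (Subgroup.mem_zpowers x))]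
  have h3 : (a x)⁻¹ * g x ∈ centSub E F :=
    le_centSub ((Subgroup.closure_le _).mpr focalSet_subset) (hom_le_focal hS hE)
      (Subgroup.subset_closure hmem)
  have := (centSub E F).mul_mem (Subgroup.subset_closure hax : a x ∈ centSub E F) h3
  rwa [mul_inv_cancel_left] at this

/-- The maps preserving `C_S(E)`. -/
def keepSystem (hS : IsPGroup p S) (hE : E.IsNormalIn F p) : FusionSystem S where
  Hom R := {φ | φ ∈ F.Hom R ∧ ∀ x : R, ((x : Ω) ∈ centSub E F ↔ φ x ∈ centSub E F)}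
  le_of_mem h := F.le_of_mem h.1
  injective_of_mem h := F.injective_of_mem h.1
  conj_mem := by
    intro R s hR hs
    refine ⟨F.conj_mem hR hs, fun x => ⟨fun hx => ?_, fun hx => ?_⟩⟩
    · exact Subgroup.subset_closure (conj_mem_centSub hE hs (mem_centSub hS hE hx))
    · have := conj_mem_centSub hE (S.inv_mem hs) (mem_centSub hS hE hx)
      have h2 : (x : Ω) ∈ weakSet E F := by simpa [conjHom_apply, mul_assoc] using this
      exact Subgroup.subset_closure h2
  comp_mem := fun {P Q φ ψ} hφ hψ h =>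
    ⟨F.comp_mem hφ.1 hψ.1 h, fun x => (hφ.2 x).trans (hψ.2 ⟨φ x, h x⟩)⟩
  inv_mem := by
    rintro P φ ⟨hφ, hφC⟩
    obtain ⟨ψ, hψ, he⟩ := F.inv_mem hφ
    refine ⟨ψ, ⟨hψ, ?_⟩, he⟩
    rintro ⟨_, x, rfl⟩
    rw [he x]
    exact (hφC x).symm

set_option maxHeartbeats 800000 in
/-- An element of order prime to `p` of the normal closure of `Aut_T(R)` fixes `C_S(E) ∩ R`. -/
theorem fixed_of_prime (hS : IsPGroup p S) (hE : E.IsNormalIn F p) (hRc : F.IsCentric R)
    (hRr : F.IsRadical p R) {o : F.autGroup R}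
    (ho : o ∈ Subgroup.normalClosure
      (((autInducedBy T R).subgroupOf (F.autGroup R) : Subgroup (F.autGroup R)) : Set (F.autGroup R)))
    (hord : ¬ p ∣ orderOf o) (x : R) (hx : (x : Ω) ∈ centSub E F) : (o : MulAut R) x = x := by
  obtain ⟨hEs, hF, hEi⟩ := id hE.1
  have hT := hEi.2.1
  have hRS := hRc.1
  haveI := finite_of_le hT.1
  haveI := finite_mulAut_of_le hRS
  haveI := finite_autGroup (F := F) hRS
  haveI := finite_of_le hRS
  have hTp : IsPGroup p T := hS.to_le hT.1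
  let G := F.autGroup R
  let A : Subgroup G := (autInducedBy T R).subgroupOf G
  set P := R ⊓ T
  have hPT : P ≤ T := inf_le_right
  have hPR : P ≤ R := inf_le_left
  have hPS := hPT.trans hT.1
  have hpres : ∀ β ∈ G, ∀ r : R, (r : Ω) ∈ P → ((β r : R) : Ω) ∈ P := fun β hβ r hr => by
    obtain ⟨b, hb, hbe⟩ := isIso_of_aut hRS hβ
    exact ⟨(β r).2, hbe r ▸ hT.iso_mem hb r.2 hr.2⟩
  -- move `P` to a fully normalised conjugate
  obtain ⟨P0, hPP0, hP0⟩ := F.exists_isFullyNormalized hPS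
  obtain ⟨φ, hφ, hφr, ψ, hψ, -, hψe⟩ := hF.exists_map_to_fullyNormalized hS hP0 hPP0
  obtain ⟨H, hHdef⟩ : ∃ H, funOf ψ = H := ⟨_, rfl⟩
  have hH : F.IsIso (normalizerIn S P) ψ.range H := hHdef ▸ isIso_funOf hψ
  have hPN : P ≤ normalizerIn S P := le_normalizerIn hPS
  have hRN : R ≤ normalizerIn S P := fun r hr => ⟨hRS hr, Subgroup.mem_normalizer_iff.mpr fun y =>
    ⟨fun hy => ⟨R.mul_mem (R.mul_mem hr hy.1) (R.inv_mem hr),
        (Subgroup.mem_normalizer_iff.mp (hT.le_normalizer (hRS hr)) y).mp hy.2⟩,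
     fun hy => ⟨by simpa [mul_assoc] using R.mul_mem (R.mul_mem (R.inv_mem hr) hy.1) hr,
        (Subgroup.mem_normalizer_iff.mp (hT.le_normalizer (hRS hr)) y).mpr hy.2⟩⟩⟩
  have hHP : F.IsIso P P0 H := ⟨φ, hφ, hφr, fun y => by
    rw [← hψe y (hPN y.2), ← hHdef]
    exact funOf_apply ψ _⟩
  obtain ⟨R', hR', -, hR'm⟩ := hH.restrict hRN
  obtain ⟨H', hH', hl, hr'⟩ := hR'.symm
  have hP0m : ∀ y, y ∈ P0 ↔ ∃ z ∈ P, H z = y := fun y =>
    ⟨hHP.surj, fun ⟨z, hz, he⟩ => he ▸ hHP.mem hz⟩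
  have hP0R : P0 ≤ R' := fun y hy => by
    obtain ⟨z, hz, rfl⟩ := (hP0m y).mp hy; exact hR'.mem (hPR hz)
  have hP0T : P0 ≤ T := hT.iso_le hHP hPT
  have hR'c : F.IsCentric R' := hRc.of_isConj hR'.isConj
  have hP0' : ∀ y ∈ R', y ∈ T → y ∈ P0 := fun y hy hyT => by
    have h1 : H' y ∈ T := hT.iso_mem hH' hy hyT
    rw [← hr' y hy]
    exact (hP0m _).mpr ⟨_, ⟨hH'.mem hy, h1⟩, rfl⟩
  have hfc := hF.isFullyCentralized_of_isFullyNormalized hS hP0
  have hEn : E.IsFullyNormalized P0 := hP0.of_invariant hEi hS hF hP0T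
  -- centralizer in `T`
  have hcent : centralizerIn T P0 ≤ P0 := by
    by_contra hnot
    set H1 := R' ⊔ centralizerIn T P0
    have hH1 : H1 ≤ S := sup_le hR'c.1 (centralizerIn_le.trans hT.1)
    have hlt : R' < H1 := lt_of_le_of_ne le_sup_left fun e => hnot fun t ht =>
      hP0' t (e.ge (Subgroup.mem_sup_right ht)) ht.1
    haveI := finite_of_le hH1
    obtain ⟨w, hw, hwR⟩ := SetLike.exists_of_lt (lt_normalizerIn (p := p) (hS.to_le hH1) hlt)
    have hnorm : R' ≤ Subgroup.normalizer ((centralizerIn T P0 : Subgroup Ω) : Set Ω) := by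
      intro r hr
      have hrS := hR'c.1 hr
      have hrP : ∀ y, y ∈ P0 ↔ r * y * r⁻¹ ∈ P0 := fun y => ⟨fun hy => hP0' _
        (R'.mul_mem (R'.mul_mem hr (hP0R hy)) (R'.inv_mem hr))
        ((Subgroup.mem_normalizer_iff.mp (hT.le_normalizer hrS) y).mp (hP0T hy)), fun hy => hP0' _
          (by simpa [mul_assoc] using R'.mul_mem (R'.mul_mem (R'.inv_mem hr) (hP0R hy)) hr)
          ((Subgroup.mem_normalizer_iff.mp (hT.le_normalizer hrS) y).mpr (hP0T hy))⟩
      refine Subgroup.mem_normalizer_iff.mpr fun c => ⟨fun hc => ⟨?_, ?_⟩, fun hc => ⟨?_, ?_⟩⟩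
      · exact (Subgroup.mem_normalizer_iff.mp (hT.le_normalizer hrS) c).mp hc.1
      · refine Subgroup.mem_centralizer_iff.mpr fun y hy => ?_
        have h1 : r⁻¹ * y * r ∈ P0 := (hrP _).mpr (by simpa [mul_assoc] using hy)
        have h2 := Subgroup.mem_centralizer_iff.mp hc.2 _ h1
        calc y * (r * c * r⁻¹) = r * ((r⁻¹ * y * r) * c) * r⁻¹ := by group
          _ = r * (c * (r⁻¹ * y * r)) * r⁻¹ := by rw [h2]
          _ = r * c * r⁻¹ * y := by group
      · exact (Subgroup.mem_normalizer_iff.mp (hT.le_normalizer hrS) c).mpr hc.1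
      · refine Subgroup.mem_centralizer_iff.mpr fun y hy => ?_
        have h1 : r * y * r⁻¹ ∈ P0 := (hrP _).mp hy
        have h2 := Subgroup.mem_centralizer_iff.mp hc.2 _ h1
        calc y * c = r⁻¹ * ((r * y * r⁻¹) * (r * c * r⁻¹)) * r := by group
          _ = r⁻¹ * ((r * c * r⁻¹) * (r * y * r⁻¹)) * r := by rw [h2]
          _ = c * y := by group
    have hw1 : w ∈ (↑(R' ⊔ centralizerIn T P0) : Set Ω) := hw.1
    rw [Subgroup.coe_mul_of_left_le_normalizer_right R' (centralizerIn T P0) hnorm] at hw1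
    obtain ⟨r, hr, t, ht, rfl⟩ := hw1
    have htN : t ∈ Subgroup.normalizer (R' : Set Ω) := by
      have := Subgroup.mul_mem _ (Subgroup.inv_mem _
        (Subgroup.le_normalizer hr : r ∈ Subgroup.normalizer (R' : Set Ω))) hw.2
      simpa [mul_assoc] using this
    -- the pullback of conjugation by `t`
    have hc : F.IsIso R' R' (fun y => t * y * t⁻¹) :=
      isIso_conj_normalizer hR'c.1 (hT.1 ht.1) htN
    have hk := (hR'.comp hc).comp hH'
    obtain ⟨κ, hκ, hκe⟩ := hk.toAut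
    obtain ⟨J, hJn, hJ⟩ := mem_normal_stab (F := F) hRS hpres
    obtain ⟨K, hKn, hK⟩ : ∃ K : Subgroup G, K.Normal ∧
        ∀ g : G, g ∈ K ↔ (∀ r : R, (r : Ω) ∈ P → (g : MulAut R) r = r) ∧ g ∈ J := by
      let K0 : Subgroup G :=
        { carrier := {g | ∀ r : R, (r : Ω) ∈ P → (g : MulAut R) r = r}
          one_mem' := fun r _ => rfl
          mul_mem' := fun {a b} ha hb r hr => by
            rw [Subgroup.coe_mul, MulAut.mul_apply, hb r hr, ha r hr]
          inv_mem' := fun {a} ha r hr => by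
            conv_lhs => rw [← ha r hr]
            simp }
      have hK0 : K0.Normal := ⟨fun k hk g r hr => by
        simp only [Subgroup.coe_mul, MulAut.mul_apply]
        rw [hk _ (hpres _ (g⁻¹ : G).2 r hr)]
        simp⟩
      exact ⟨K0 ⊓ J, inferInstance, fun g => Iff.rfl⟩
    have hKp : IsPGroup p K := by
      have hPp : IsPGroup p (P.subgroupOf R) :=
        (hS.to_le hPS).of_equiv (Subgroup.subgroupOfEquivOfLe hPR).symm
      have := isPGroup_stab (p := p) (K.map G.subtype) (P.subgroupOf R) hPp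
        (by rintro _ ⟨k, hk, rfl⟩ z hz; exact ((hK k).mp hk).1 z hz)
        (by rintro _ ⟨k, hk, rfl⟩ r; simpa [Subgroup.mem_subgroupOf] using (hJ k).mp ((hK k).mp hk).2 r)
      exact this.of_equiv (Subgroup.equivMapOfInjective K _ Subtype.val_injective).symm
    have hκK : (⟨κ, hκ⟩ : G) ∈ K := by
      refine (hK _).mpr ⟨fun r hr => Subtype.ext ?_, (hJ _).mpr fun r => ?_⟩
      · rw [hκe]
        show H' (t * H r * t⁻¹) = r
        have h1 : H r ∈ P0 := (hP0m _).mpr ⟨r, hr, rfl⟩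
        rw [← Subgroup.mem_centralizer_iff.mp ht.2 _ h1, mul_inv_cancel_right, hl r r.2]
      · rw [hκe]
        show (r : Ω)⁻¹ * H' (t * H r * t⁻¹) ∈ P
        have hHr : H r ∈ R' := hR'.mem r.2
        have hd : (H r)⁻¹ * (t * H r * t⁻¹) ∈ P0 := hP0' _
          (R'.mul_mem (R'.inv_mem hHr) ((Subgroup.mem_normalizer_iff.mp htN _).mp hHr))
          (by
            have h1 := (Subgroup.mem_normalizer_iff.mp
              (hT.le_normalizer (S.inv_mem (hR'c.1 hHr))) t).mp ht.1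
            have := T.mul_mem h1 (T.inv_mem ht.1)
            simpa [mul_assoc] using this)
        obtain ⟨z, hz, hze⟩ := (hP0m _).mp hd
        have e : t * H r * t⁻¹ = H (r * z) := by
          rw [hR'.apply_mul r.2 (hPR hz), hze, mul_inv_cancel_left]
        rw [e, hl _ (R.mul_mem r.2 (hPR hz)), inv_mul_cancel_left]
        exact hz
    have hinn : κ ∈ Inn R := by
      rw [← hRr.2]
      exact ⟨⟨κ, hκ⟩,
        (le_sSup (show K ∈ {N : Subgroup G | N.Normal ∧ IsPGroup p N} from ⟨hKn, hKp⟩)) hκK, rfl⟩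
    obtain ⟨z, hz⟩ := hinn
    have hzc : (H z)⁻¹ * t ∈ centralizerIn S R' := by
      refine ⟨S.mul_mem (S.inv_mem (hR'c.1 (hR'.mem z.2))) (hT.1 ht.1),
        Subgroup.mem_centralizer_iff.mpr fun y hy => ?_⟩
      obtain ⟨r0, hr0, rfl⟩ := hR'.surj hy
      have h1 : H' (t * H r0 * t⁻¹) = (z : Ω) * r0 * (z : Ω)⁻¹ := by
        have h0 := hκe ⟨r0, hr0⟩
        rw [← hz] at h0
        exact h0.symm.trans rfl
      have h2 := congrArg H h1
      rw [hr' _ ((Subgroup.mem_normalizer_iff.mp htN _).mp (hR'.mem hr0)),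
        hR'.apply_conj z.2 hr0] at h2
      calc H r0 * ((H z)⁻¹ * t) = (H z)⁻¹ * (H z * H r0 * (H z)⁻¹) * t := by group
        _ = (H z)⁻¹ * (t * H r0 * t⁻¹) * t := by rw [h2]
        _ = (H z)⁻¹ * t * H r0 := by group
    have htR' : t ∈ R' := by
      have := R'.mul_mem (hR'.mem z.2) (hR'c.centralizerIn_le_self hzc)
      rwa [mul_inv_cancel_left] at this
    exact hwR (R'.mul_mem hr htR')
  -- the restriction of `o` is a map of `E`
  obtain ⟨J, hJn, hJ⟩ := mem_normal_stab (F := F) hRS hpres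
  have hAJ : A ≤ J := fun a ha => (hJ a).mpr fun r => by
    obtain ⟨t, ht, -, he⟩ := mem_autInducedBy_iff.mp (Subgroup.mem_subgroupOf.mp ha)
    refine ⟨R.mul_mem (R.inv_mem r.2) (SetLike.coe_mem _), ?_⟩
    rw [he]
    have h1 := (Subgroup.mem_normalizer_iff.mp (hT.le_normalizer (S.inv_mem (hRS r.2))) t).mp ht
    have := T.mul_mem h1 (T.inv_mem ht)
    simpa [mul_assoc] using this
  have hoJ : o ∈ J := Subgroup.normalClosure_le_normal hAJ ho
  obtain ⟨of, hof, hofe⟩ := isIso_of_aut hRS o.2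
  obtain ⟨E0, hE0n, hE0⟩ : ∃ E0 : Subgroup G, E0.Normal ∧ ∀ g : G,
      g ∈ E0 ↔ ∃ e, E.IsIso P P e ∧ ∀ r : R, (r : Ω) ∈ P → (((g : MulAut R) r : R) : Ω) = e r := by
    refine ⟨{ carrier := {g : G | ∃ e, E.IsIso P P e ∧
                ∀ r : R, (r : Ω) ∈ P → (((g : MulAut R) r : R) : Ω) = e r}
              one_mem' := ⟨fun y => y, IsIso.refl E hPT, fun r _ => rfl⟩
              mul_mem' := fun {a b} ⟨e, he, hee⟩ ⟨e', he', hee'⟩ => ⟨_, he'.comp he, fun r hr => by
                rw [Subgroup.coe_mul, MulAut.mul_apply, hee _ (hpres _ b.2 r hr), hee' r hr]⟩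
              inv_mem' := fun {a} ⟨e, he, hee⟩ => by
                obtain ⟨e', he', hle, -⟩ := he.symm
                refine ⟨e', he', fun r hr => ?_⟩
                have h1 := hpres _ (a⁻¹ : G).2 r hr
                have h2 := hee _ h1
                simp only [InvMemClass.coe_inv, MulAut.apply_inv_self] at h2
                rw [h2]
                exact (hle _ h1).symm }, ⟨fun k ⟨e, he, hee⟩ g => ?_⟩, fun g => Iff.rfl⟩
    obtain ⟨b, hb, hbe⟩ := isIso_of_aut hRS g.2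
    have hbP : ∀ y ∈ P, b y ∈ P := fun y hy => hbe ⟨y, hPR hy⟩ ▸ hpres _ g.2 _ hy
    have hb1 := isIso_self hb hPR hbP
    obtain ⟨e', he', hee'⟩ := hEi.iso_transport hb1 hPT he le_rfl le_rfl
      (image_self hb hPR hbP) (image_self hb hPR hbP)
    refine ⟨e', he', fun r hr => ?_⟩
    have h1 := hpres _ (g⁻¹ : G).2 r hr
    simp only [Subgroup.coe_mul, MulAut.mul_apply]
    rw [hbe, hee _ h1, ← hee' _ h1, ← hbe]
    simp
  have hAE : A ≤ E0 := fun a ha => by
    obtain ⟨t, ht, htn, he⟩ := mem_autInducedBy_iff.mp (Subgroup.mem_subgroupOf.mp ha)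
    have htP : t ∈ Subgroup.normalizer (P : Set Ω) :=
      Subgroup.mem_normalizer_iff.mpr fun y => and_congr (Subgroup.mem_normalizer_iff.mp htn y)
        (Subgroup.mem_normalizer_iff.mp (Subgroup.le_normalizer ht) y)
    exact (hE0 a).mpr ⟨_, isIso_conj_normalizer hPT ht htP, fun r _ => he r⟩
  obtain ⟨e, he, hee⟩ := (hE0 o).mp (Subgroup.normalClosure_le_normal hAE ho)
  -- the transported restriction is liftable
  obtain ⟨L0, hL0n, hL0⟩ : ∃ L0 : Subgroup G, L0.Normal ∧ ∀ g : G,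
      g ∈ L0 ↔ ∃ e, Lift F P0 e ∧ ∀ r : R, (r : Ω) ∈ P → H ((g : MulAut R) r : R) = e (H r) := by
    refine ⟨{ carrier := {g : G | ∃ e, Lift F P0 e ∧
                ∀ r : R, (r : Ω) ∈ P → H ((g : MulAut R) r : R) = e (H r)}
              one_mem' := ⟨fun y => y, ⟨IsIso.refl F (ext_le hfc.1), fun y hy => hy,
                fun c _ => by simp⟩, fun r _ => rfl⟩
              mul_mem' := fun {a b} ⟨e, he, hee⟩ ⟨e', he', hee'⟩ => ⟨_, he'.comp he, fun r hr => by
                rw [Subgroup.coe_mul, MulAut.mul_apply, hee _ (hpres _ b.2 r hr), hee' r hr]⟩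
              inv_mem' := fun {a} ⟨e, he, hee⟩ => by
                obtain ⟨e', he', hle, -⟩ := he.exists_symm
                refine ⟨e', he', fun r hr => ?_⟩
                have h1 := hpres _ (a⁻¹ : G).2 r hr
                have h2 := hee _ h1
                simp only [InvMemClass.coe_inv, MulAut.apply_inv_self] at h2
                rw [h2]
                exact (hle _ (Subgroup.mem_sup_left ((hP0m _).mpr ⟨_, h1, rfl⟩))).symm },
      ⟨fun k ⟨e, he, hee⟩ g => ?_⟩, fun g => Iff.rfl⟩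
    obtain ⟨b, hb, hbe⟩ := isIso_of_aut hRS g.2
    have hbg := (hH'.comp hb).comp hR'
    have hbgP : ∀ y ∈ P0, H (b (H' y)) ∈ P0 := fun y hy => by
      obtain ⟨z, hz, rfl⟩ := (hP0m y).mp hy
      rw [hl z (hPR hz)]
      exact (hP0m _).mpr ⟨_, hbe ⟨z, hPR hz⟩ ▸ hpres _ g.2 _ hz, rfl⟩
    obtain ⟨β, hβ, hβe⟩ := (isIso_self hbg hP0R hbgP).toAut
    haveI := finite_mulAut_of_le hfc.1
    obtain ⟨α, hα, hαe⟩ := he.restrictP.toAut
    obtain ⟨f', hf', hf'e⟩ := liftable_conj hS hF hfc (α := α) ⟨e, he, hαe⟩ hβ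
    refine ⟨f', hf', fun r hr => ?_⟩
    have h1 := hpres _ (g⁻¹ : G).2 r hr
    set r' := ((g⁻¹ : G) : MulAut R) r with hr''
    have hrr : r = (g : MulAut R) r' := by rw [hr'']; simp
    have hq : H r' ∈ P0 := (hP0m _).mpr ⟨_, h1, rfl⟩
    simp only [Subgroup.coe_mul, MulAut.mul_apply]
    rw [← hr'']
    have hv : H r = ((β ⟨H r', hq⟩ : P0) : Ω) := by
      rw [hβe, hl _ r'.2, ← hbe r', ← hrr]
    have hv' : β⁻¹ ⟨H r, (hP0m _).mpr ⟨r, hr, rfl⟩⟩ = ⟨H r', hq⟩ := by
      rw [show (⟨H r, (hP0m _).mpr ⟨r, hr, rfl⟩⟩ : P0) = β ⟨H r', hq⟩ from Subtype.ext hv]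
      exact β.symm_apply_apply _
    rw [← hf'e ⟨H r, (hP0m _).mpr ⟨r, hr, rfl⟩⟩, MulAut.mul_apply, MulAut.mul_apply, hv', hβe, hαe]
    show _ = H (b (H' (e (H r'))))
    rw [← hee r' h1, hl _ (SetLike.coe_mem _), ← hbe]
  have hAL : A ≤ L0 := fun a ha => by
    obtain ⟨t, ht, htn, hte⟩ := mem_autInducedBy_iff.mp (Subgroup.mem_subgroupOf.mp ha)
    have htP : t ∈ Subgroup.normalizer (P : Set Ω) :=
      Subgroup.mem_normalizer_iff.mpr fun y => and_congr (Subgroup.mem_normalizer_iff.mp htn y)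
        (Subgroup.mem_normalizer_iff.mp (Subgroup.le_normalizer ht) y)
    have htN : t ∈ normalizerIn S P := ⟨hT.1 ht, htP⟩
    have hHt : H t ∈ T := hT.iso_mem hH htN ht
    have hHtn : H t ∈ Subgroup.normalizer (P0 : Set Ω) := hH.mem_normalizer hPN hP0m htN htP
    obtain ⟨f', hf', hf'e⟩ := autInducedBy_le_liftable (F := F) hT hP0T hcent
      (mem_autInducedBy_iff.mpr ⟨H t, hHt, hHtn, fun _ => rfl⟩ :
        P0.normalizerMonoidHom ⟨H t, hHtn⟩ ∈ autInducedBy T P0)
    refine (hL0 a).mpr ⟨f', hf', fun r hr => ?_⟩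
    rw [hte, hH.apply_conj htN (hPN hr), ← hf'e ⟨H r, (hP0m _).mpr ⟨r, hr, rfl⟩⟩]
    rfl
  obtain ⟨f0, hf0, hf0e⟩ := (hL0 o).mp (Subgroup.normalClosure_le_normal hAL ho)
  -- make its order prime to `p`
  have hord' : ¬ p ∣ orderOf (o : MulAut R) := by rwa [Subgroup.orderOf_coe]
  have hofP : ∀ y ∈ P, of y ∈ P := fun y hy => hofe ⟨y, hPR hy⟩ ▸ hpres _ o.2 _ hy
  have hperR : ∀ r : R, of^[orderOf (o : MulAut R)] r = r := fun r => by
    rw [← coe_pow_apply hofe _ r, pow_orderOf_eq_one]; rfl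
  have hperP : ∀ y ∈ P0, f0^[orderOf (o : MulAut R)] y = y := by
    intro y hy
    obtain ⟨z, hz, rfl⟩ := (hP0m y).mp hy
    have hk : ∀ k : ℕ, f0^[k] (H z) = H (of^[k] z) ∧ of^[k] z ∈ P := by
      intro k
      induction k with
      | zero => exact ⟨rfl, hz⟩
      | succ k ih =>
        rw [Function.iterate_succ_apply', Function.iterate_succ_apply', ih.1]
        refine ⟨?_, hofP _ ih.2⟩
        have h1 := hf0e ⟨_, hPR ih.2⟩ ih.2
        rw [hofe] at h1
        exact h1.symm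
    rw [(hk _).1, hperR ⟨z, hPR hz⟩]
  obtain ⟨f, hf, hff, m, hm, hper⟩ := hf0.exists_pprime hord' hperP
  -- the element
  have hxw := mem_centSub hS hE hx
  obtain ⟨g, hg, hge, hgx⟩ := exists_fixing_iso hxw he
  have hxC0 : H x ∈ centralizerIn S P0 :=
    map_centralizer hR' hPR hP0m ⟨hxw.1.1, Subgroup.centralizer_le hPT hxw.1.2⟩ x.2
  have hle : P ⊔ Subgroup.zpowers (x : Ω) ≤ R := sup_le hPR (Subgroup.zpowers_le.mpr x.2)
  have hh : F.IsIso (P ⊔ Subgroup.zpowers (x : Ω)) (P0 ⊔ Subgroup.zpowers (H x)) H :=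
    sup_image hR' hPR (Subgroup.zpowers_le.mpr x.2) hP0m (image_zpowers hR' x.2)
  obtain ⟨h', hh', hhl, -⟩ := hh.symm
  have hχ := (hh'.comp hg).comp hh
  have hxm : (x : Ω) ∈ P ⊔ Subgroup.zpowers (x : Ω) := Subgroup.mem_sup_right (Subgroup.mem_zpowers _)
  have hfx : f (H x) = H x := by
    refine fixed_of_weak hS hF hfc hf hm hper hχ le_sup_left (fun y hy => ?_)
      (Subgroup.mem_sup_right (Subgroup.mem_zpowers _)) hxC0 ?_
    · show H (g (h' y)) = f y
      obtain ⟨z, hz, rfl⟩ := (hP0m y).mp hy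
      rw [hhl z (Subgroup.mem_sup_left hz), hge z hz, hff _ ((hP0m _).mpr ⟨z, hz, rfl⟩),
        ← hee ⟨z, hPR hz⟩ hz]
      exact hf0e ⟨z, hPR hz⟩ hz
    · show H (g (h' (H x))) = H x
      rw [hhl _ hxm, hgx]
  -- compare with `o`
  obtain ⟨f', hf', hfl, hfr⟩ := hf.exists_symm
  have ho' := (hH'.comp hof).comp hR'
  have hle' : P0 ⊔ Subgroup.zpowers (H x) ≤ R' := sup_le hP0R (Subgroup.zpowers_le.mpr (hR'.mem x.2))
  obtain ⟨Q1, hQ1, -, hQ1m⟩ := ho'.restrict hle'
  obtain ⟨q, hq⟩ : ∃ q, q = (x : Ω)⁻¹ * of x := ⟨_, rfl⟩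
  have hqP : q ∈ P := by
    have := (hJ o).mp hoJ x
    rw [hofe, ← hq] at this
    exact this
  have hox : of x = x * q := by rw [hq, mul_inv_cancel_left]
  have hHq : H q ∈ P0 := (hP0m _).mpr ⟨q, hqP, rfl⟩
  have hof0 : ∀ y ∈ P0, H (of (H' y)) = f y := fun y hy => by
    obtain ⟨z, hz, rfl⟩ := (hP0m y).mp hy
    rw [hl z (hPR hz), hff _ ((hP0m _).mpr ⟨z, hz, rfl⟩)]
    have h1 := hf0e ⟨z, hPR hz⟩ hz
    rwa [hofe] at h1
  have hox' : H (of (H' (H x))) = H x * H q := by
    rw [hl _ x.2, hox, hR'.apply_mul x.2 (hPR hqP)]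
  have hQ1W : Q1 ≤ P0 ⊔ centralizerIn S P0 := by
    have hQ1' : F.IsIso (P0 ⊔ Subgroup.zpowers (H x))
        (P0 ⊔ Subgroup.zpowers (H x * H q)) (fun y => H (of (H' y))) := by
      refine sup_image ho' hP0R (Subgroup.zpowers_le.mpr (hR'.mem x.2))
        (image_self ho' hP0R fun y hy => by rw [hof0 y hy]; exact hf.pres y hy) ?_
      have := image_zpowers ho' (hR'.mem x.2)
      simp only [hox'] at this
      exact this
    intro y hy
    obtain ⟨z, hz, rfl⟩ := hQ1.surj hy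
    exact sup_le le_sup_left (Subgroup.zpowers_le.mpr ((P0 ⊔ centralizerIn S P0).mul_mem
      (Subgroup.mem_sup_right hxC0) (Subgroup.mem_sup_left hHq))) (hQ1'.mem hz)
  obtain ⟨Q2, hQ2, -, -⟩ := hf'.iso.restrict hQ1W
  have key := fixed_transport hS hF hfc hf hm hper (hQ1.comp hQ2) le_sup_left
    (fun y hy => by rw [hof0 y hy, hfl y (Subgroup.mem_sup_left hy)])
    (Subgroup.mem_sup_right (Subgroup.mem_zpowers _)) hxC0 hfx
  simp only [hox'] at key
  set W := P0 ⊔ centralizerIn S P0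
  have hxqW : H x * H q ∈ W := W.mul_mem (Subgroup.mem_sup_right hxC0) (Subgroup.mem_sup_left hHq)
  rw [hfr _ hxqW] at key
  -- `key : H x * H q = f' (H x * H q)`
  have h5 := congrArg f key
  rw [hfr _ hxqW, hf.iso.apply_mul (Subgroup.mem_sup_right hxC0) (Subgroup.mem_sup_left hHq), hfx] at h5
  have hfq : f (H q) = H q := mul_left_cancel h5
  have hoq : of q = q := by
    refine hR'.inj (hof.mem (hPR hqP)) (hPR hqP) ?_
    rw [← hfq, hff _ hHq]
    have h1 := hf0e ⟨q, hPR hqP⟩ hqP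
    rwa [hofe] at h1
  have hiter : ∀ k : ℕ, of^[k] x = x * q ^ k := by
    intro k
    induction k with
    | zero => simp
    | succ k ih =>
      have hqk : of (q ^ k) = q ^ k := by
        clear ih
        induction k with
        | zero => simp [hof.apply_one]
        | succ k ih => rw [pow_succ, hof.apply_mul (R.pow_mem (hPR hqP) k) (hPR hqP), ih, hoq]
      rw [Function.iterate_succ_apply', ih, hof.apply_mul x.2 (R.pow_mem (hPR hqP) k), hqk, hox,
        pow_succ', ← mul_assoc]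
  have h8 : q ^ orderOf (o : MulAut R) = 1 := by
    have := hiter (orderOf (o : MulAut R))
    rwa [hperR x, left_eq_mul] at this
  obtain ⟨i, hi⟩ := hS.to_le hPS ⟨q, hqP⟩
  have hq1 : q = 1 := eq_one_of_coprime_pow h8 (congrArg Subtype.val hi)
    (Nat.Coprime.pow_right i ((Nat.Prime.coprime_iff_not_dvd Fact.out).mpr hord').symm)
  exact Subtype.ext (by rw [hofe, hox, hq1, mul_one])

set_option maxHeartbeats 800000 in
/-- `C_S(E)` is strongly closed. -/
theorem stronglyClosed_centSub (hS : IsPGroup p S) (hE : E.IsNormalIn F p) :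
    F.StronglyClosed (centSub E F) := by
  obtain ⟨hEs, hF, hEi⟩ := id hE.1
  have hT := hEi.2.1
  refine ⟨centSub_le.trans centralizerIn_le, ?_⟩
  suffices hle : F ≤ keepSystem hS hE by
    intro R hR φ hφ x
    exact ((hle R hφ).2 x).mp (hR x.2)
  refine hF.le_of_autGroup_le' hS _ fun R hR hbig => ?_
  have hRS : R ≤ S := by
    rcases hR with rfl | hR
    · exact le_rfl
    · exact hR.1.1
  haveI := finite_of_le hT.1
  haveI := finite_of_le hRS
  haveI := finite_autGroup (F := F) hRS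
  set G := F.autGroup R
  let KK : Subgroup G := ((keepSystem hS hE).autGroup R).subgroupOf G
  suffices htop : KK = ⊤ from Subgroup.subgroupOf_eq_top.mp htop
  have hfixmem : ∀ g : G, (∀ x : R, (x : Ω) ∈ centSub E F → (g : MulAut R) x = x) → g ∈ KK := by
    intro g hg
    obtain ⟨φ, hφ, -, he⟩ := F.exists_map_of_mem_autGroup hRS g.2
    refine (keepSystem hS hE).mem_autGroup_of_map (φ := φ) ⟨hφ, fun x => ?_⟩ fun x => (he x).symm
    rw [he]
    refine ⟨fun hx => by rw [hg x hx]; exact hx, fun hx => ?_⟩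
    have h1 := hg _ hx
    have h2 : (g : MulAut R) x = x := (g : MulAut R).injective h1
    rwa [h2] at hx
  by_cases hTR : T ≤ R
  · rw [eq_top_iff]
    intro g _
    obtain ⟨φ, hφ, hr, he⟩ := F.exists_map_of_mem_autGroup hRS g.2
    refine (keepSystem hS hE).mem_autGroup_of_map (φ := φ) ⟨hφ, fun x => ?_⟩ fun x => (he x).symm
    have hi : F.IsIso R R (funOf φ) := by
      have := isIso_funOf hφ
      rwa [hr] at this
    rw [funOf_apply φ x]
    refine ⟨weakSet_move hS hE hi hTR x.2, fun hx => ?_⟩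
    obtain ⟨b, hb, hl, -⟩ := hi.symm
    have := weakSet_move hS hE hb hTR (hi.mem x.2) hx
    rwa [hl x x.2] at this
  rcases hR with rfl | hR
  · exact absurd hT.1 hTR
  have hlt : R < S := hR.lt hS hF
  have hRr := hR.isRadical hS hF
  obtain ⟨-, U, hU⟩ := hF.isFullyAutomized_of_isFullyNormalized hS hR.2.1
  have hrec := hF.isReceptive_of_isFullyNormalized hS hR.2.1
  set A : Subgroup G := (autInducedBy T R).subgroupOf G with hA
  set O := Subgroup.normalClosure (A : Set G) with hO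
  have hAO : A ≤ O := fun a ha => Subgroup.subset_normalClosure ha
  have hAU : A ≤ (U : Subgroup G) := by
    rw [hU]
    exact fun a ha => autInducedBy_mono hT.1 ha
  -- a Sylow subgroup of `O`
  obtain ⟨W, hW⟩ := ((U.2.to_le (inf_le_left : (U : Subgroup G) ⊓ O ≤ U)).of_equiv
    (Subgroup.subgroupOfEquivOfLe inf_le_right).symm).exists_le_sylow
  have hWmap : (W : Subgroup O).map O.subtype = (U : Subgroup G) ⊓ O := by
    symm
    have h1 : (U : Subgroup G) ⊓ O ≤ (W : Subgroup O).map O.subtype :=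
      fun x hx => ⟨⟨x, hx.2⟩, hW hx, rfl⟩
    obtain ⟨a, ha⟩ := exists_conj_mem_sylow U (W.2.map O.subtype)
    refine Subgroup.eq_of_le_of_card_ge h1 ?_
    refine le_trans (le_of_eq (Subgroup.card_map_of_injective
      (f := (MulAut.conj a : G ≃* _).toMonoidHom) (MulEquiv.injective (MulAut.conj a))).symm)
      (Subgroup.card_le_of_le ?_)
    rintro _ ⟨x, hx, rfl⟩
    refine ⟨ha x hx, ?_⟩
    obtain ⟨y, -, rfl⟩ := hx
    exact Subgroup.normalClosure_normal.conj_mem _ y.2 a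
  have hgen := W.normalizer_sup_eq_top
  rw [hWmap] at hgen
  set N := Subgroup.normalizer (((U : Subgroup G) ⊓ O : Subgroup G) : Set G)
  -- elements of `N` extend
  have hext : ∀ n ∈ N, ∃ ψ ∈ F.Hom (R ⊔ normalizerIn T R),
      ∀ x : R, ψ ⟨x, Subgroup.mem_sup_left x.2⟩ = (((n : G) : MulAut R) x : R) := fun n hn =>
    exists_extension_of_normalizes hrec (n : G).2 (fun g hg => ⟨hT.1 hg.1, hg.2⟩) (by
      intro g hg hgN
      let c : G := ⟨R.normalizerMonoidHom ⟨g, hgN⟩,
        autInducedBy_le_autGroup hRS (mem_autInducedBy_iff.mpr ⟨g, hT.1 hg.1, hgN, fun _ => rfl⟩)⟩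
      have hcA : c ∈ A :=
        (mem_autInducedBy_iff.mpr ⟨g, hg.1, hgN, fun _ => rfl⟩ : (c : MulAut R) ∈ autInducedBy T R)
      exact hU.le ((Subgroup.mem_normalizer_iff.mp hn c).mp ⟨hAU hcA, hAO hcA⟩).1)
  have hNA : ∀ n ∈ N, ∀ a ∈ A, n * a * n⁻¹ ∈ A := by
    intro n hn a ha
    obtain ⟨t, ht, htn, hte⟩ := mem_autInducedBy_iff.mp (Subgroup.mem_subgroupOf.mp ha)
    obtain ⟨ψ, hψ, hψe⟩ := hext n hn
    have hi := isIso_funOf hψ
    have htm : t ∈ R ⊔ normalizerIn T R := Subgroup.mem_sup_right ⟨ht, htn⟩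
    have hψR : ∀ r : R, funOf ψ r = ((n : MulAut R) r : R) := fun r => by
      rw [← hψe r]; exact (funOf_apply ψ ⟨r, Subgroup.mem_sup_left r.2⟩).symm
    refine Subgroup.mem_subgroupOf.mpr (mem_autInducedBy_iff.mpr
      ⟨funOf ψ t, hT.iso_mem hi htm ht, ?_, fun r => ?_⟩)
    · exact hi.mem_normalizer le_sup_left (fun y => ⟨fun hy => ⟨_, ((n : MulAut R)⁻¹ ⟨y, hy⟩).2, by
        rw [hψR]; simp⟩, fun ⟨z, hz, he⟩ => he ▸ hψR ⟨z, hz⟩ ▸ SetLike.coe_mem _⟩) htm htn
    · set r' := ((n⁻¹ : G) : MulAut R) r with hr'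
      have hrr : r = (n : MulAut R) r' := by rw [hr']; simp
      simp only [Subgroup.coe_mul, MulAut.mul_apply]
      rw [← hr', ← hψR, hte, hi.apply_conj htm (Subgroup.mem_sup_left r'.2), hψR, ← hrr]
  -- `O` fixes the elements
  let Fx : Subgroup G :=
    { carrier := {g | ∀ x : R, (x : Ω) ∈ centSub E F → (g : MulAut R) x = x}
      one_mem' := fun x _ => rfl
      mul_mem' := fun {a b} ha hb x hx => by
        rw [Subgroup.coe_mul, MulAut.mul_apply, hb x hx, ha x hx]
      inv_mem' := fun {a} ha x hx => by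
        conv_lhs => rw [← ha x hx]
        simp }
  have hAF : A ≤ Fx := fun a ha x hx => by
    obtain ⟨t, ht, -, hte⟩ := mem_autInducedBy_iff.mp (Subgroup.mem_subgroupOf.mp ha)
    refine Subtype.ext ?_
    rw [hte, Subgroup.mem_centralizer_iff.mp (centSub_le hx).2 t ht, mul_inv_cancel_right]
  have hOF : O ≤ Fx := by
    by_contra hnot
    set M : Subgroup O := Fx.subgroupOf O
    have hne : M ≠ ⊤ := fun e => hnot (Subgroup.subgroupOf_eq_top.mp e)
    let W0 : Subgroup O := Subgroup.closure {g | ¬ p ∣ orderOf g}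
    have hW0M : W0 ≤ M := (Subgroup.closure_le _).mpr fun a ha x hx =>
      fixed_of_prime hS hE hR.1 hRr a.2 (by rwa [Subgroup.orderOf_coe]) x hx
    have hW0n : W0.Normal := by
      refine Subgroup.Normal.mk fun n hn g => ?_
      have : W0.map (MulAut.conj g).toMonoidHom ≤ W0 := by
        rw [Subgroup.map_le_iff_le_comap, Subgroup.closure_le]
        intro x hx
        refine Subgroup.subset_closure ?_
        show ¬ p ∣ orderOf ((MulAut.conj g) x)
        rwa [MulEquiv.orderOf_eq]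
      exact this ⟨n, hn, rfl⟩
    have hq : IsPGroup p (O ⧸ W0) := by
      intro y
      obtain ⟨g, rfl⟩ := QuotientGroup.mk'_surjective W0 y
      obtain ⟨e, he⟩ := prime_part (p := p) g
      exact ⟨e, by rw [← map_pow, QuotientGroup.mk'_apply, QuotientGroup.eq_one_iff]
                   exact Subgroup.subset_closure he⟩
    haveI := hq.isNilpotent
    set π := QuotientGroup.mk' W0
    have hMlt : M.map π ≠ ⊤ := by
      intro e
      apply hne
      rw [eq_top_iff]
      intro g _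
      obtain ⟨m, hm, hme⟩ : π g ∈ M.map π := e ▸ Subgroup.mem_top _
      have : m⁻¹ * g ∈ W0 := QuotientGroup.eq.mp hme
      simpa using M.mul_mem hm (hW0M this)
    obtain ⟨X, hX, hMX⟩ := (eq_top_or_exists_le_coatom (M.map π)).resolve_left hMlt
    have hXn : X.Normal := Subgroup.NormalizerCondition.normal_of_coatom X (Group.normalizerCondition_of_isNilpotent) hX
    have hXO : O ≤ (X.comap π).map O.subtype := by
      let Y : Subgroup G := (X.comap π).map O.subtype
      have hAX : ∀ a ∈ A, a ∈ Y := fun a ha =>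
        ⟨⟨a, hAO ha⟩, hMX ⟨⟨a, hAO ha⟩, hAF ha, rfl⟩, rfl⟩
      show Subgroup.closure (Group.conjugatesOfSet (A : Set G)) ≤ Y
      refine (Subgroup.closure_le _).mpr fun c hc => ?_
      show c ∈ Y
      obtain ⟨a, ha, hac⟩ := Group.mem_conjugatesOfSet_iff.mp hc
      obtain ⟨g, rfl⟩ := isConj_iff.mp hac
      have hg : g ∈ O ⊔ N := by
        rw [sup_comm, hgen]; exact Subgroup.mem_top _
      haveI : O.Normal := Subgroup.normalClosure_normal
      obtain ⟨o, ho, n, hn, hgon⟩ := Subgroup.mem_sup_of_normal_left.mp hg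
      obtain ⟨y, hy, hye⟩ := hAX _ (hNA n hn a ha)
      have hconj : (⟨o, ho⟩ : O) * y * (⟨o, ho⟩ : O)⁻¹ ∈ X.comap π :=
        (Subgroup.Normal.comap hXn π).conj_mem y hy ⟨o, ho⟩
      refine Subgroup.mem_map.mpr ⟨_, hconj, ?_⟩
      rw [← hgon, map_mul, map_mul, map_inv, hye, Subgroup.coe_subtype, Subgroup.coe_mk]
      group
    apply hX.1
    rw [eq_top_iff]
    intro y _
    obtain ⟨g, rfl⟩ := QuotientGroup.mk'_surjective W0 y
    obtain ⟨z, hz, hze⟩ := hXO g.2
    have : z = g := Subtype.ext hze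
    exact this ▸ hz
  rw [eq_top_iff, ← hgen]
  refine sup_le (fun n hn => ?_) fun o ho => hfixmem o (hOF ho)
  obtain ⟨ψ, hψ, hψe⟩ := hext n hn
  refine (keepSystem hS hE).mem_autGroup_of_map
    ((keepSystem hS hE).restrict_mem (hbig _ ?_ hψ) le_sup_left) fun x => (hψe x).symm
  haveI := finite_of_le (sup_le hRS (normalizerIn_le.trans hT.1) : R ⊔ normalizerIn T R ≤ S)
  refine card_lt_of_lt (lt_of_le_of_ne le_sup_left fun e => ?_)
  have hle : R ⊔ T ≤ S := sup_le hRS hT.1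
  have hlt' : R < R ⊔ T := lt_of_le_of_ne le_sup_left fun e => hTR (le_sup_right.trans e.ge)
  haveI := finite_of_le hle
  obtain ⟨w, hw, hwR⟩ := SetLike.exists_of_lt (lt_normalizerIn (p := p) (hS.to_le hle) hlt')
  have hw1 : w ∈ (↑(R ⊔ T) : Set Ω) := hw.1
  rw [Subgroup.coe_mul_of_left_le_normalizer_right R T (hRS.trans hT.le_normalizer)] at hw1
  obtain ⟨r, hr, t, ht, rfl⟩ := hw1
  have htN : t ∈ Subgroup.normalizer (R : Set Ω) := by
    have := Subgroup.mul_mem _ (Subgroup.inv_mem _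
      (Subgroup.le_normalizer hr : r ∈ Subgroup.normalizer (R : Set Ω))) hw.2
    simpa [mul_assoc] using this
  exact hwR (R.mul_mem hr (e.ge (Subgroup.mem_sup_right ⟨ht, htN⟩)))

end Cfsg.FusionSystem.SubCent
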