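import Cfsg.Agent.Lib.Fusion.SubCent.Basic

/-!
Lifts of order prime to `p` commute with the centralizer system of `P`.
-/

set_option autoImplicit false
set_option linter.unusedSectionVars false
set_option linter.style.haveILetI false

namespace Cfsg.FusionSystem.SubCent

universe u

variable {Ω : Type u} [Group Ω] {S T : Subgroup Ω} {F : FusionSystem S}
  {P Q R : Subgroup Ω} {f g : Ω → Ω} {p : ℕ}

/-- The maps of `C_F(P)` preserving the fixed points of `f`. -/
def fixSystem [Finite S] (h : Lift F P f) (hP : P ≤ S) : FusionSystem (centralizerIn S P) where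
  Hom R := {φ | φ ∈ F.centralizerHom P R ∧ ∀ x : R, (f x = x ↔ f (φ x) = φ x)}
  le_of_mem := fun hφ => (F.centralizerSystem P hP).le_of_mem hφ.1
  injective_of_mem := fun hφ => (F.centralizerSystem P hP).injective_of_mem hφ.1
  conj_mem := by
    intro R s hR hs
    refine ⟨(F.centralizerSystem P hP).conj_mem hR hs, fun x => ?_⟩
    have hx : (x : Ω) ∈ centralizerIn S P := hR x.2
    set W := P ⊔ centralizerIn S P
    have hxW : (x : Ω) ∈ W := Subgroup.mem_sup_right hx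
    have hsW : s ∈ W := Subgroup.mem_sup_right hs
    obtain ⟨hu, hu'⟩ := h.triv' hs
    obtain ⟨ha, ha'⟩ := h.triv' hx
    have hfs : f s = s * (s⁻¹ * f s) := (mul_inv_cancel_left _ _).symm
    have hfx : f x = x * ((x : Ω)⁻¹ * f x) := (mul_inv_cancel_left _ _).symm
    set u := s⁻¹ * f s
    set a := (x : Ω)⁻¹ * f x
    have c1 : ∀ y ∈ centralizerIn S P, Commute u y := fun y hy =>
      Subgroup.mem_centralizer_iff.mp hy.2 u hu
    have c2 : ∀ y ∈ centralizerIn S P, Commute a y := fun y hy =>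
      Subgroup.mem_centralizer_iff.mp hy.2 a ha
    have key : f (conjHom R s x) = conjHom R s x * a := by
      show f (s * x * s⁻¹) = s * x * s⁻¹ * a
      rw [h.iso.apply_conj hsW hxW, hfs, hfx, mul_inv_rev]
      calc s * u * ((x : Ω) * a) * (u⁻¹ * s⁻¹) = s * (u * ((x : Ω) * a)) * u⁻¹ * s⁻¹ := by group
        _ = s * ((x : Ω) * a) * (u * u⁻¹) * s⁻¹ := by
          rw [((c1 _ hx).mul_right (c1 _ ha')).eq]; group
        _ = s * x * (a * s⁻¹) := by group
        _ = s * x * s⁻¹ * a := by rw [(c2 _ ((centralizerIn S P).inv_mem hs)).eq]; group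
    rw [key, hfx, mul_eq_left, mul_eq_left]
  comp_mem := by
    rintro R R' φ ψ ⟨hφ, hφf⟩ ⟨hψ, hψf⟩ hh
    exact ⟨(F.centralizerSystem P hP).comp_mem hφ hψ hh, fun x => (hφf x).trans (hψf ⟨φ x, hh x⟩)⟩
  inv_mem := by
    rintro R φ ⟨hφ, hφf⟩
    obtain ⟨ψ, hψ, he⟩ := (F.centralizerSystem P hP).inv_mem hφ
    refine ⟨ψ, ⟨hψ, ?_⟩, he⟩
    rintro ⟨_, x, rfl⟩
    rw [he x]
    exact (hφf x).symm

theorem isPGroup_stab {G : Type*} [Group G] [Finite G] [Fact p.Prime] (K : Subgroup (MulAut G))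
    (Z : Subgroup G) (hZ : IsPGroup p Z)
    (h1 : ∀ κ ∈ K, ∀ z ∈ Z, κ z = z) (h2 : ∀ κ ∈ K, ∀ g : G, g⁻¹ * κ g ∈ Z) : IsPGroup p K := by
  obtain ⟨e, he⟩ := IsPGroup.iff_card.mp hZ
  rintro ⟨κ, hκ⟩
  refine ⟨e, Subtype.ext ?_⟩
  ext g
  have hpow : ∀ k : ℕ, (κ ^ k) g = g * (g⁻¹ * κ g) ^ k := by
    intro k
    induction k with
    | zero => simp
    | succ k ih =>
      rw [pow_succ', MulAut.mul_apply, ih, map_mul, map_pow, h1 κ hκ _ (h2 κ hκ g), pow_succ',
        ← mul_assoc g, mul_inv_cancel_left]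
  have h3 := pow_card_eq_one' (x := (⟨_, h2 κ hκ g⟩ : Z))
  rw [he] at h3
  have h4 := congrArg Subtype.val h3
  simp only [SubmonoidClass.coe_pow, OneMemClass.coe_one] at h4
  show (κ ^ p ^ e) g = g
  rw [hpow, h4, mul_one]

variable [Finite S] [Fact p.Prime]

theorem centralizer_hom_le_fixSystem (hS : IsPGroup p S) (hF : F.IsSaturated p)
    (hP : F.IsFullyCentralized P) (h : Lift F P f) {m : ℕ} (hm : ¬ p ∣ m)
    (hper : ∀ x ∈ P ⊔ centralizerIn S P, f^[m] x = x) :
    F.centralizerSystem P hP.1 ≤ fixSystem h hP.1 := by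
  haveI := finite_centralizerIn (S := S) (P := P)
  set D := F.centralizerSystem P hP.1
  have hD : D.IsSaturated p := hF.isSaturated_centralizerSystem hS hP (fun _ => rfl)
  have hC : IsPGroup p (centralizerIn S P) := hS.to_le centralizerIn_le
  refine hD.le_of_autGroup_le' hC _ fun R hR _ α hα => ?_
  obtain ⟨hRc, hRn⟩ : D.IsCentric R ∧ D.IsFullyNormalized R := by
    rcases hR with rfl | hR
    · exact ⟨isCentric_self, isFullyNormalized_self⟩
    · exact ⟨hR.1, hR.2.1⟩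
  have hRC : R ≤ centralizerIn S P := hRc.1
  set Z := P ⊓ centralizerIn S P
  have hZR : Z ≤ R := fun z hz => hRc.centralizerIn_le_self
    ⟨hz.2, Subgroup.mem_centralizer_iff.mpr fun r hr =>
      (Subgroup.mem_centralizer_iff.mp (hRC hr).2 z hz.1).symm⟩
  haveI := finite_of_le (hRC.trans centralizerIn_le : R ≤ S)
  haveI := finite_mulAut_of_le (hRC.trans centralizerIn_le : R ≤ S)
  haveI := finite_autGroup (F := D) hRC
  have hfR : ∀ r ∈ R, f r ∈ R := fun r hr => by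
    have h1 := hZR (h.triv' (hRC hr))
    have := R.mul_mem hr h1
    rwa [mul_inv_cancel_left] at this
  have hRW : R ⊔ P ≤ P ⊔ centralizerIn S P := sup_le (hRC.trans le_sup_right) le_sup_left
  have hf' : F.IsIso (R ⊔ P) (R ⊔ P) f :=
    sup_image h.iso (hRC.trans le_sup_right) le_sup_left
      (image_self h.iso (hRC.trans le_sup_right) hfR) (image_self h.iso le_sup_left h.pres)
  -- description of automorphisms of the centralizer system
  have hdesc : ∀ β ∈ D.autGroup R, ∃ b, F.IsIso (R ⊔ P) (R ⊔ P) b ∧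
      (∀ r : R, ((β r : R) : Ω) = b r) ∧ ∀ y ∈ P, b y = y := by
    intro β hβ
    obtain ⟨φ, hφ, -, hφe⟩ := D.exists_map_of_mem_autGroup hRC hβ
    obtain ⟨-, -, -, ψ, hψ, hψe, hψfix⟩ := hφ
    have hi := isIso_funOf hψ
    have e1 : ∀ r : R, funOf ψ r = ((β r : R) : Ω) := fun r => by
      rw [← hφe r, ← hψe r]
      exact (funOf_apply ψ (Subgroup.inclusion le_sup_left r)).symm
    have e2 : ∀ y ∈ P, funOf ψ y = y := fun y hy =>
      (funOf_apply ψ (Subgroup.inclusion le_sup_right ⟨y, hy⟩)).symm.trans (hψfix ⟨y, hy⟩)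
    refine ⟨funOf ψ, ?_, fun r => (e1 r).symm, e2⟩
    refine sup_image hi le_sup_left le_sup_right (image_self hi le_sup_left fun r hr => ?_)
      (image_self hi le_sup_right fun y hy => by rw [e2 y hy]; exact hy)
    rw [e1 ⟨r, hr⟩]; exact (β _).2
  obtain ⟨a, ha, hae, haP⟩ := hdesc α hα
  have haR : ∀ r ∈ R, a r ∈ R := fun r hr => by rw [← hae ⟨r, hr⟩]; exact (α _).2
  obtain ⟨f', hf'L, hl, hr'⟩ := h.exists_symm
  have hf'' : F.IsIso (R ⊔ P) (R ⊔ P) f' := by
    refine isIso_self hf'L.iso hRW fun x hx => ?_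
    obtain ⟨y, hy, rfl⟩ := hf'.surj hx
    rw [hl y (hRW hy)]; exact hy
  have hf'R : ∀ r ∈ R, f' r ∈ R := fun r hr => by
    obtain ⟨y, hy, rfl⟩ := (image_self h.iso (hRC.trans le_sup_right) hfR r).mp hr
    rw [hl y (Subgroup.mem_sup_right (hRC hy))]; exact hy
  -- the conjugate automorphism
  have hb : F.IsIso (R ⊔ P) (R ⊔ P) (fun x => f' (a (f x))) := (hf'.comp ha).comp hf''
  have hbP : ∀ y ∈ P, f' (a (f y)) = y := fun y hy => by
    rw [haP _ (h.pres y hy), hl y (Subgroup.mem_sup_left hy)]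
  have hbR : ∀ r ∈ R, f' (a (f r)) ∈ R := fun r hr => hf'R _ (haR _ (hfR r hr))
  obtain ⟨β₀, hβ₀, hβ₀e⟩ := (isIso_self hb le_sup_left hbR).toAut
  have hβD : β₀ ∈ D.autGroup R := by
    obtain ⟨φ, hφ, hφr, hφe⟩ := F.exists_map_of_mem_autGroup (hRC.trans centralizerIn_le) hβ₀
    obtain ⟨χ, hχ, hχr, hχe⟩ := hb
    refine D.mem_autGroup_of_map (φ := φ) ⟨hφ, hRC, fun x => hRC (hφr.le ⟨x, rfl⟩), χ, hχ,
      fun x => ?_, fun y => ?_⟩ fun x => (hφe x).symm
    · rw [hφe, hβ₀e]; exact hχe _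
    · exact (hχe _).trans (hbP y y.2)
  set κ := α⁻¹ * β₀ with hκ
  have hκD : κ ∈ D.autGroup R := (D.autGroup R).mul_mem ((D.autGroup R).inv_mem hα) hβD
  have hαZ : ∀ r : R, (r : Ω) ∈ Z → α r = r := fun r hr => Subtype.ext (by rw [hae, haP _ hr.1])
  have hκZ : ∀ r : R, (r : Ω) ∈ Z → κ r = r := by
    intro r hr
    have : β₀ r = r := Subtype.ext (by rw [hβ₀e]; exact hbP _ hr.1)
    rw [hκ, MulAut.mul_apply, this]
    conv_lhs => rw [← hαZ r hr]
    exact α.symm_apply_apply r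
  have hκm : ∀ r : R, (r : Ω)⁻¹ * (κ r : R) ∈ Z := by
    intro r
    -- `β₀ r = α r * z`
    obtain ⟨hz1, hz1'⟩ := h.triv' (hRC r.2)
    set z1 := (r : Ω)⁻¹ * f r
    have hfr : f r = r * z1 := (mul_inv_cancel_left _ _).symm
    have haf : a (f r) = a r * z1 := by
      rw [hfr, ha.apply_mul (Subgroup.mem_sup_left r.2) (Subgroup.mem_sup_right hz1), haP _ hz1]
    have hafR : a (f r) ∈ R := haR _ (hfR _ r.2)
    obtain ⟨hz2, hz2'⟩ := hf'L.triv' (hRC hafR)
    set z2 := (a (f r))⁻¹ * f' (a (f r))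
    have hβr : ((β₀ r : R) : Ω) = ((α r : R) : Ω) * (z1 * z2) := by
      rw [hβ₀e, hae]
      show f' (a (f r)) = _
      rw [← mul_assoc, ← haf]
      exact (mul_inv_cancel_left _ _).symm
    have hzZ : z1 * z2 ∈ Z := Z.mul_mem ⟨hz1, hz1'⟩ ⟨hz2, hz2'⟩
    have hzR : z1 * z2 ∈ R := hZR hzZ
    have : β₀ r = α (r * ⟨_, hzR⟩) := Subtype.ext (by
      rw [map_mul, hαZ ⟨_, hzR⟩ hzZ, Subgroup.coe_mul, hβr])
    have : κ r = r * ⟨_, hzR⟩ := by
      rw [hκ, MulAut.mul_apply, this]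
      exact α.symm_apply_apply _
    rw [this, Subgroup.coe_mul, inv_mul_cancel_left]
    exact hzZ
  let K : Subgroup (D.autGroup R) :=
    { carrier := {k | (∀ r : R, (r : Ω) ∈ Z → (k : MulAut R) r = r) ∧
        ∀ r : R, (r : Ω)⁻¹ * ((k : MulAut R) r : R) ∈ Z}
      one_mem' := ⟨fun _ _ => rfl, fun r => by simp⟩
      mul_mem' := by
        rintro k l ⟨hk1, hk2⟩ ⟨hl1, hl2⟩
        refine ⟨fun r hr => by rw [Subgroup.coe_mul, MulAut.mul_apply, hl1 r hr, hk1 r hr],
          fun r => ?_⟩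
        have h3 := Z.mul_mem (hl2 r) (hk2 ((l : MulAut R) r))
        simpa [mul_assoc] using h3
      inv_mem' := by
        rintro k ⟨hk1, hk2⟩
        refine ⟨fun r hr => ?_, fun r => ?_⟩
        · conv_lhs => rw [← hk1 r hr]
          simp
        · have h3 := Z.inv_mem (hk2 (((k⁻¹ : D.autGroup R) : MulAut R) r))
          simpa using h3 }
  have hKn : K.Normal := by
    refine ⟨fun k hk g => ?_⟩
    obtain ⟨b, hb', hbe, hbP'⟩ := hdesc _ g.2
    have hgZ : ∀ r : R, (r : Ω) ∈ Z → (g : MulAut R) r = r := fun r hr =>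
      Subtype.ext (by rw [hbe, hbP' _ hr.1])
    have hgZ' : ∀ r : R, (r : Ω) ∈ Z → ((g⁻¹ : D.autGroup R) : MulAut R) r = r := fun r hr => by
      conv_lhs => rw [← hgZ r hr]
      simp
    refine ⟨fun r hr => ?_, fun r => ?_⟩
    · simp only [Subgroup.coe_mul, MulAut.mul_apply]
      rw [hgZ' r hr, hk.1 r hr, hgZ r hr]
    · simp only [Subgroup.coe_mul, MulAut.mul_apply]
      set s := ((g⁻¹ : D.autGroup R) : MulAut R) r with hs
      have hr : r = (g : MulAut R) s := by rw [hs]; simp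
      have e : (r : Ω)⁻¹ * ((g : MulAut R) ((k : MulAut R) s) : R)
          = ((g : MulAut R) (s⁻¹ * (k : MulAut R) s) : R) := by
        conv_lhs => rw [hr]
        simp
      rw [e, hgZ _ (by simpa using hk.2 s)]
      simpa using hk.2 s
  have hKp : IsPGroup p K := by
    have hZp : IsPGroup p (Z.subgroupOf R) :=
      (hS.to_le (inf_le_right.trans centralizerIn_le : Z ≤ S)).of_equiv
        (Subgroup.subgroupOfEquivOfLe hZR).symm
    have := isPGroup_stab (p := p) (K.map (D.autGroup R).subtype) (Z.subgroupOf R) hZp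
      (by rintro _ ⟨k, hk, rfl⟩ z hz; exact hk.1 z hz)
      (by rintro _ ⟨k, hk, rfl⟩ r; simpa [Subgroup.mem_subgroupOf] using hk.2 r)
    exact this.of_equiv (Subgroup.equivMapOfInjective K _ Subtype.val_injective).symm
  obtain ⟨-, U, hU⟩ := hD.isFullyAutomized_of_isFullyNormalized hC hRn
  have hκS : κ ∈ autInducedBy (centralizerIn S P) R :=
    Subgroup.mem_subgroupOf.mp (hU.le (le_sylow U hKn hKp (⟨hκZ, hκm⟩ : (⟨κ, hκD⟩ : D.autGroup R) ∈ K)))
  obtain ⟨s, hs, -, hse⟩ := mem_autInducedBy_iff.mp hκS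
  obtain ⟨φf, hφf, hφfr, hφfe⟩ := isIso_self h.iso (hRC.trans le_sup_right) hfR
  let fR : MulAut R := F.isoOf hφf hφfr
  have hfRe : ∀ r : R, ((fR r : R) : Ω) = f r := fun r => by
    rw [coe_isoOf]; exact hφfe r
  have hκf : κ * fR = fR * κ := by
    ext r
    simp only [MulAut.mul_apply]
    rw [hse, hfRe, hfRe, hse]
    have hsW : s ∈ P ⊔ centralizerIn S P := Subgroup.mem_sup_right hs
    obtain ⟨hu, hu'⟩ := h.triv' hs
    rw [h.iso.apply_conj hsW (Subgroup.mem_sup_right (hRC r.2)),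
      show f s = s * (s⁻¹ * f s) from (mul_inv_cancel_left _ _).symm]
    set u := s⁻¹ * f s
    have : Commute u (f r) := Subgroup.mem_centralizer_iff.mp (h.map_cent (hRC r.2)).2 u hu
    calc s * f r * s⁻¹ = s * (f r * u * u⁻¹) * s⁻¹ := by group
      _ = s * (u * f r * u⁻¹) * s⁻¹ := by rw [this.eq]
      _ = s * u * f r * (s * u)⁻¹ := by group
  have hfβ : fR * β₀ = α * fR := by
    ext r
    simp only [MulAut.mul_apply]
    rw [hfRe, hβ₀e, hae, hfRe]
    exact hr' _ (Subgroup.mem_sup_right (hRC (haR _ (hfR _ r.2))))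
  have hfα : fR * α * κ = α * fR := by
    rw [mul_assoc, ← hfβ, hκ, mul_inv_cancel_left]
  have hfm : fR ^ m = 1 := by
    ext r
    rw [coe_pow_apply hfRe m r]
    exact hper _ (Subgroup.mem_sup_right (hRC r.2))
  have hiter : ∀ j : ℕ, fR ^ j * α * κ ^ j = α * fR ^ j := by
    intro j
    induction j with
    | zero => simp
    | succ j ih =>
      have hc' : Commute (κ ^ j) fR := (Commute.pow_left hκf j)
      calc fR ^ (j + 1) * α * κ ^ (j + 1)
          = fR * (fR ^ j * α * κ ^ j) * κ := by rw [pow_succ', pow_succ]; simp [mul_assoc]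
        _ = fR * α * (fR ^ j * κ) := by rw [ih]; simp [mul_assoc]
        _ = fR * α * (κ * fR ^ j) := by rw [(Commute.pow_right hκf j).symm.eq]
        _ = α * fR ^ (j + 1) := by rw [← mul_assoc, hfα, pow_succ', mul_assoc]
  have hκ1 : κ = 1 := by
    have h1 : κ ^ m = 1 := by
      have := hiter m
      rwa [hfm, one_mul, mul_one, mul_eq_left] at this
    obtain ⟨e, he⟩ := hKp ⟨⟨κ, hκD⟩, hκZ, hκm⟩
    have h2 : κ ^ p ^ e = 1 := congrArg (fun k : K => ((k : D.autGroup R) : MulAut R)) he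
    exact eq_one_of_coprime_pow h1 h2
      ((Nat.Coprime.pow_right e ((Nat.Prime.coprime_iff_not_dvd Fact.out).mpr hm).symm))
  rw [hκ1, mul_one] at hfα
  obtain ⟨φ, hφ, -, hφe⟩ := D.exists_map_of_mem_autGroup hRC hα
  refine (fixSystem h hP.1).mem_autGroup_of_map (φ := φ) ⟨hφ, fun r => ?_⟩ fun r => (hφe r).symm
  rw [hφe]
  have e1 : fR r = r ↔ f r = r := by rw [← Subtype.val_inj, hfRe]
  have e2 : fR (α r) = α r ↔ f (α r : R) = (α r : R) := by rw [← Subtype.val_inj, hfRe]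
  rw [← e1, ← e2, show fR (α r) = α (fR r) from congrArg (fun σ : MulAut R => σ r) hfα]
  exact (α.injective.eq_iff).symm

/-- Maps fixing `P` elementwise send fixed points of a lift of order prime to `p` to fixed points. -/
theorem fixed_transport (hS : IsPGroup p S) (hF : F.IsSaturated p) (hP : F.IsFullyCentralized P)
    (h : Lift F P f) {m : ℕ} (hm : ¬ p ∣ m) (hper : ∀ x ∈ P ⊔ centralizerIn S P, f^[m] x = x)
    {R Q : Subgroup Ω} (hg : F.IsIso R Q g) (hPR : P ≤ R) (hgP : ∀ y ∈ P, g y = y) {c : Ω}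
    (hcR : c ∈ R) (hc : c ∈ centralizerIn S P) (hfc : f c = c) : f (g c) = g c := by
  have hle : (R ⊓ centralizerIn S P) ⊔ P ≤ R := sup_le inf_le_left hPR
  have hgc : ∀ y ∈ R, y ∈ centralizerIn S P → g y ∈ centralizerIn S P := fun y hy hyc =>
    map_centralizer hg hPR (fun z => ⟨fun hz => ⟨z, hz, hgP z hz⟩,
      fun ⟨x, hx, he⟩ => he ▸ (by rw [hgP x hx]; exact hx)⟩) hyc hy
  obtain ⟨φ, hφ, hr, he⟩ := hg
  have hmem : φ.comp (Subgroup.inclusion (inf_le_left : R ⊓ centralizerIn S P ≤ R)) ∈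
      (F.centralizerSystem P hP.1).Hom (R ⊓ centralizerIn S P) := by
    refine ⟨F.restrict_mem hφ inf_le_left, inf_le_right, fun x => ?_, _, F.restrict_mem hφ hle,
      fun _ => rfl, fun y => ?_⟩
    · show φ _ ∈ _
      rw [he]; exact hgc _ x.2.1 x.2.2
    · show φ _ = _
      rw [he]; exact hgP _ y.2
  have h3 : f (φ ⟨c, hcR⟩) = φ ⟨c, hcR⟩ :=
    ((centralizer_hom_le_fixSystem hS hF hP h hm hper _ hmem).2 ⟨c, hcR, hc⟩).mp hfc
  rwa [he] at h3

/-- A weakly fixed element is fixed. -/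
theorem fixed_of_weak (hS : IsPGroup p S) (hF : F.IsSaturated p) (hP : F.IsFullyCentralized P)
    (h : Lift F P f) {m : ℕ} (hm : ¬ p ∣ m) (hper : ∀ x ∈ P ⊔ centralizerIn S P, f^[m] x = x)
    {R Q : Subgroup Ω} (hg : F.IsIso R Q g) (hPR : P ≤ R) (hgP : ∀ y ∈ P, g y = f y) {x : Ω}
    (hxR : x ∈ R) (hx : x ∈ centralizerIn S P) (hgx : g x = x) : f x = x := by
  obtain ⟨f', hf', hl, hr⟩ := h.exists_symm
  obtain ⟨w, hwP, hwC, hw⟩ := h.exists_fixed hS hm hper hx
  set W := P ⊔ centralizerIn S P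
  have hxW : x ∈ W := Subgroup.mem_sup_right hx
  have hwW : w ∈ W := Subgroup.mem_sup_left hwP
  have hle : P ⊔ Subgroup.zpowers x ≤ R := sup_le hPR (Subgroup.zpowers_le.mpr hxR)
  obtain ⟨Q₁, h1, -, hQ₁⟩ := hg.restrict hle
  have hQW : Q₁ ≤ W := by
    obtain ⟨φ, hφ, hφr, hφe⟩ := h1
    rw [← hφr]
    rintro _ ⟨y, rfl⟩
    have hall : (⊤ : Subgroup ↥(P ⊔ Subgroup.zpowers x)) ≤ W.comap φ := by
      rw [← Subgroup.subgroupOf_self (P ⊔ Subgroup.zpowers x),
        Subgroup.subgroupOf_sup le_sup_left le_sup_right]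
      refine sup_le (fun z hz => ?_) (fun z hz => ?_)
      · show φ z ∈ W
        have hz' : (z : Ω) ∈ P := hz
        rw [hφe, hgP _ hz']
        exact Subgroup.mem_sup_left (h.pres _ hz)
      · obtain ⟨k, hk⟩ := hz
        show φ z ∈ W
        have hxm : x ∈ P ⊔ Subgroup.zpowers x := Subgroup.mem_sup_right (Subgroup.mem_zpowers x)
        have : z = (⟨x, hxm⟩ : ↥(P ⊔ Subgroup.zpowers x)) ^ k := Subtype.ext (by simpa using hk.symm)
        rw [this, map_zpow, hφe, hgx]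
        exact W.zpow_mem hxW k
    exact hall (Subgroup.mem_top y)
  obtain ⟨Q₂, h2, -, -⟩ := hf'.iso.restrict hQW
  have hcomp := h1.comp h2
  have hPfix : ∀ y ∈ P, f' (g y) = y := fun y hy => by rw [hgP y hy, hl y (Subgroup.mem_sup_left hy)]
  have hxm : x ∈ P ⊔ Subgroup.zpowers x := Subgroup.mem_sup_right (Subgroup.mem_zpowers x)
  have key := fixed_transport hS hF hP h hm hper hcomp le_sup_left hPfix
    ((P ⊔ Subgroup.zpowers x).mul_mem hxm (Subgroup.mem_sup_left hwP))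
    ((centralizerIn S P).mul_mem hx hwC) hw
  have e1 : f' (g (x * w)) = f' x * w := by
    rw [hg.apply_mul hxR (hPR hwP), hgx, hgP w hwP,
      hf'.iso.apply_mul hxW (h.iso.mem hwW), hl w hwW]
  simp only [e1] at key
  have hf'x : f' x ∈ W := hf'.iso.mem hxW
  have h4 : x * f w = f' x * w := by
    rw [← key, h.iso.apply_mul hf'x hwW, hr x hxW]
  have h5 : f' x * f' w = x * w := by
    rw [← hf'.iso.apply_mul hxW hwW]
    conv_lhs => rw [← hw]
    exact hl _ (W.mul_mem hxW hwW)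
  have hf'w : f' w ∈ P := hf'.pres w hwP
  have hfw : f w ∈ P := h.pres w hwP
  have hcw : ∀ y ∈ P, Commute w y := fun y hy =>
    (Subgroup.mem_centralizer_iff.mp hwC.2 y hy).symm
  set d := w⁻¹ * f w with hd
  have h6 : f w * w⁻¹ * f' w = w := by
    have e : f' x = x * f w * w⁻¹ := by rw [h4]; group
    rw [e] at h5
    exact mul_left_cancel (a := x) (by rw [← h5]; group)
  have hd' : f' w = d⁻¹ * w := by
    rw [hd, ← ((hcw _ hfw).inv_left).symm.eq]
    calc f' w = (f w * w⁻¹)⁻¹ * (f w * w⁻¹ * f' w) := by group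
      _ = (f w * w⁻¹)⁻¹ * w := by rw [h6]
  have hdW : d ∈ W := W.mul_mem (W.inv_mem hwW) (h.iso.mem hwW)
  have hfd : f d = d := by
    have h7 := congrArg f hd'
    rw [hr w hwW, h.iso.apply_mul (W.inv_mem hdW) hwW, h.iso.apply_inv hdW] at h7
    calc f d = f w * ((f d)⁻¹ * f w)⁻¹ := by group
      _ = f w * w⁻¹ := by rw [← h7]
      _ = d := by rw [hd]; exact ((hcw _ hfw).inv_left).symm.eq
  have hiter : ∀ j : ℕ, f^[j] w = w * d ^ j := by
    intro j
    induction j with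
    | zero => simp
    | succ j ih =>
      have hfdp : f (d ^ j) = d ^ j := by
        clear ih
        induction j with
        | zero => simp [h.iso.apply_one]
        | succ j ih => rw [pow_succ, h.iso.apply_mul (W.pow_mem hdW j) hdW, ih, hfd]
      rw [Function.iterate_succ_apply', ih, h.iso.apply_mul hwW (W.pow_mem hdW j), hfdp, pow_succ',
        ← mul_assoc, hd, mul_inv_cancel_left]
  have h8 : d ^ m = 1 := by
    have := hiter m
    rwa [hper w hwW, left_eq_mul] at this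
  have hPp : IsPGroup p P := hS.to_le h.le
  obtain ⟨e, he⟩ := hPp ⟨d, P.mul_mem (P.inv_mem hwP) hfw⟩
  have h9 : d ^ p ^ e = 1 := congrArg Subtype.val he
  have hd1 : d = 1 := eq_one_of_coprime_pow h8 h9
    (Nat.Coprime.pow_right e ((Nat.Prime.coprime_iff_not_dvd Fact.out).mpr hm).symm)
  have hfw1 : f w = w := by
    rw [hd, inv_mul_eq_one] at hd1
    exact hd1.symm
  have := h.iso.apply_mul hxW hwW
  rw [hw, hfw1] at this
  exact (mul_right_cancel this).symm

/-- Two elements related by a map fixing `P` differ by a fixed element. -/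
theorem fixed_div (hS : IsPGroup p S) (hF : F.IsSaturated p) (hP : F.IsFullyCentralized P)
    (h : Lift F P f) {m : ℕ} (hm : ¬ p ∣ m) (hper : ∀ x ∈ P ⊔ centralizerIn S P, f^[m] x = x)
    {R Q : Subgroup Ω} (hg : F.IsIso R Q g) (hPR : P ≤ R) (hgP : ∀ y ∈ P, g y = y) {x : Ω}
    (hxR : x ∈ R) (hx : x ∈ centralizerIn S P) : f (x⁻¹ * g x) = x⁻¹ * g x := by
  obtain ⟨w, hwP, hwC, hw⟩ := h.exists_fixed hS hm hper hx
  set W := P ⊔ centralizerIn S P
  have hgx : g x ∈ centralizerIn S P :=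
    map_centralizer hg hPR (fun z => ⟨fun hz => ⟨z, hz, hgP z hz⟩,
      fun ⟨u, hu, he⟩ => he ▸ (by rw [hgP u hu]; exact hu)⟩) hx hxR
  have key := fixed_transport hS hF hP h hm hper hg hPR hgP (R.mul_mem hxR (hPR hwP))
    ((centralizerIn S P).mul_mem hx hwC) hw
  rw [hg.apply_mul hxR (hPR hwP), hgP w hwP] at key
  have hxW : x * w ∈ W := W.mul_mem (Subgroup.mem_sup_right hx) (Subgroup.mem_sup_left hwP)
  have hyW : g x * w ∈ W := W.mul_mem (Subgroup.mem_sup_right hgx) (Subgroup.mem_sup_left hwP)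
  have hc : Commute w (x⁻¹ * g x) := Subgroup.mem_centralizer_iff.mp
    ((centralizerIn S P).mul_mem ((centralizerIn S P).inv_mem hx) hgx).2 w hwP
  have e : x⁻¹ * g x = (x * w)⁻¹ * (g x * w) := by
    calc x⁻¹ * g x = w⁻¹ * (w * (x⁻¹ * g x)) := by group
      _ = w⁻¹ * ((x⁻¹ * g x) * w) := by rw [hc.eq]
      _ = (x * w)⁻¹ * (g x * w) := by group
  rw [e, h.iso.apply_mul (W.inv_mem hxW) hyW, h.iso.apply_inv hxW, hw, key]

end Cfsg.FusionSystem.SubCent
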