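import Cfsg.Agent.Lib.Fusion.SubCent.Closed
import Cfsg.Agent.Lib.Fusion.PrimeResidual.Setup

/-!
Maps between subgroups of the centralizer of a normal subsystem extend to the group the subsystem is over.
-/

set_option autoImplicit false
set_option linter.unusedSectionVars false
set_option linter.style.haveILetI false

namespace Cfsg.FusionSystem.SubCent

universe u

variable {Ω : Type u} [Group Ω] {S T : Subgroup Ω} {F : FusionSystem S} {E : FusionSystem T}
  {P Q R : Subgroup Ω} {f g : Ω → Ω} {p : ℕ} [Finite S] [Fact p.Prime]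

/-- The maps whose restriction to the part in `C_S(E)` extends to `T`. -/
def extSystem (hS : IsPGroup p S) (hE : E.IsNormalIn F p) : FusionSystem S where
  Hom P := {φ | φ ∈ F.Hom P ∧ (∀ x : P, (x : Ω) ∈ centSub E F ↔ φ x ∈ centSub E F) ∧
    ∃ (R Q : Subgroup Ω) (g : Ω → Ω), F.IsIso R Q g ∧ (P ⊓ centSub E F) ⊔ T ≤ R ∧
      ∀ x : P, (x : Ω) ∈ centSub E F → g x = φ x}
  le_of_mem h := F.le_of_mem h.1
  injective_of_mem h := F.injective_of_mem h.1
  conj_mem := by
    intro P s hP hs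
    refine ⟨F.conj_mem hP hs, fun x => ⟨fun hx => ?_, fun hx => ?_⟩, S, S, fun x => s * x * s⁻¹,
      isIso_conj_normalizer le_rfl hs (Subgroup.le_normalizer hs),
      sup_le (inf_le_left.trans hP) hE.1.2.2.2.1.1, fun x _ => rfl⟩
    · exact Subgroup.subset_closure (conj_mem_centSub hE hs (mem_centSub hS hE hx))
    · have h2 : (x : Ω) ∈ weakSet E F := by
        simpa [conjHom_apply, mul_assoc] using conj_mem_centSub hE (S.inv_mem hs) (mem_centSub hS hE hx)
      exact Subgroup.subset_closure h2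
  comp_mem := by
    rintro P P₂ φ ψ ⟨hφ, hφC, R, Q, g, hg, hle, hge⟩ ⟨hψ, hψC, R', Q', g', hg', hle', hge'⟩ hh
    obtain ⟨V, hV, -, -⟩ := hg.restrict hle
    have hVR : V ≤ R' := by
      refine (PrimeResidual.image_sup_le hV (fun x hx => ?_) fun t ht =>
        Subgroup.mem_sup_right (hE.1.2.2.2.1.iso_mem hg (hle (Subgroup.mem_sup_right ht)) ht)).trans hle'
      refine Subgroup.mem_sup_left ?_
      rw [hge ⟨x, hx.1⟩ hx.2]
      exact ⟨hh ⟨x, hx.1⟩, (hφC ⟨x, hx.1⟩).mp hx.2⟩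
    obtain ⟨V', hV', -, -⟩ := hg'.restrict hVR
    refine ⟨F.comp_mem hφ hψ hh, fun x => (hφC x).trans (hψC ⟨φ x, hh x⟩), _, _, _, hV.comp hV', le_rfl,
      fun x hx => ?_⟩
    show g' (g x) = ψ ⟨φ x, hh x⟩
    rw [hge x hx]
    exact hge' ⟨φ x, hh x⟩ ((hφC x).mp hx)
  inv_mem := by
    rintro P φ ⟨hφ, hφC, R, Q, g, hg, hle, hge⟩
    obtain ⟨ψ, hψ, he⟩ := F.inv_mem hφ
    obtain ⟨V, hV, -, hVm⟩ := hg.restrict hle
    obtain ⟨g', hg', hl, -⟩ := hV.symm
    have hTT := image_self hg (le_sup_right.trans hle) fun t ht =>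
      hE.1.2.2.2.1.iso_mem hg (hle (Subgroup.mem_sup_right ht)) ht
    refine ⟨ψ, ⟨hψ, ?_, V, _, g', hg', sup_le ?_ fun t ht => ?_, ?_⟩, he⟩
    · rintro ⟨_, x, rfl⟩
      rw [he x]
      exact (hφC x).symm
    · rintro _ ⟨⟨x, rfl⟩, hx⟩
      have hxC := (hφC x).mpr hx
      exact (hVm _).mpr ⟨x, Subgroup.mem_sup_left ⟨x.2, hxC⟩, hge x hxC⟩
    · obtain ⟨s, hs, hst⟩ := (hTT t).mp ht
      exact (hVm _).mpr ⟨s, Subgroup.mem_sup_right hs, hst⟩
    · rintro ⟨_, x, rfl⟩ hx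
      have hxC := (hφC x).mpr hx
      rw [he x]
      show g' (φ x) = x
      rw [← hge x hxC]
      exact hl x (Subgroup.mem_sup_left ⟨x.2, hxC⟩)

theorem mem_extSystem (hS : IsPGroup p S) (hE : E.IsNormalIn F p) {φ : P →* Ω} (hφ : φ ∈ F.Hom P)
    (hTP : T ≤ P) : φ ∈ (extSystem hS hE).Hom P := by
  refine ⟨hφ, fun x => ?_, P, φ.range, funOf φ, isIso_funOf hφ, sup_le inf_le_left hTP,
    fun x _ => (funOf_apply φ x).symm⟩
  have hC := stronglyClosed_centSub hS hE
  refine ⟨fun hx => hC.apply_mem_of_mem hφ hx, fun hx => ?_⟩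
  obtain ⟨χ, hχ, hχe⟩ := F.inv_mem hφ
  have := hC.apply_mem_of_mem hχ (x := ⟨φ x, x, rfl⟩) hx
  rwa [hχe] at this

set_option maxHeartbeats 800000 in
/-- Maps between subgroups of `C_S(E)` extend to `T`. -/
theorem exists_extend_T (hS : IsPGroup p S) (hE : E.IsNormalIn F p) {V V' : Subgroup Ω} {h : Ω → Ω}
    (hh : F.IsIso V V' h) (hV : V ≤ centSub E F) :
    ∃ (Q : Subgroup Ω) (g : Ω → Ω), F.IsIso (V ⊔ T) Q g ∧ ∀ x ∈ V, g x = h x := by
  obtain ⟨hEs, hF, hEi⟩ := id hE.1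
  have hT := hEi.2.1
  suffices hle : F ≤ extSystem hS hE by
    obtain ⟨φ, hφ, -, hφe⟩ := hh
    obtain ⟨-, -, R, Q, g, hg, hTR, hge⟩ := hle V hφ
    have hVle : V ⊔ T ≤ R := sup_le ((le_inf le_rfl hV).trans (le_sup_left.trans hTR)) (le_sup_right.trans hTR)
    obtain ⟨Q', hQ', -, -⟩ := hg.restrict hVle
    exact ⟨Q', g, hQ', fun x hx => (hge ⟨x, hx⟩ (hV hx)).trans (hφe ⟨x, hx⟩)⟩
  refine hF.le_of_autGroup_le' hS _ fun R hR hbig => ?_
  have hRS : R ≤ S := by
    rcases hR with rfl | hR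
    · exact le_rfl
    · exact hR.1.1
  haveI := finite_of_le hT.1
  haveI := finite_of_le hRS
  haveI := finite_autGroup (F := F) hRS
  set G := F.autGroup R
  let KK : Subgroup G := ((extSystem hS hE).autGroup R).subgroupOf G
  suffices htop : KK = ⊤ from Subgroup.subgroupOf_eq_top.mp htop
  by_cases hTR : T ≤ R
  · rw [eq_top_iff]
    intro g _
    obtain ⟨φ, hφ, hr, he⟩ := F.exists_map_of_mem_autGroup hRS g.2
    refine (extSystem hS hE).mem_autGroup_of_map (φ := φ) (mem_extSystem hS hE hφ hTR) fun x => (he x).symm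
  rcases hR with rfl | hR
  · exact absurd hT.1 hTR
  have hlt : R < S := hR.lt hS hF
  have hRr := hR.isRadical hS hF
  obtain ⟨-, U, hU⟩ := hF.isFullyAutomized_of_isFullyNormalized hS hR.2.1
  have hrec := hF.isReceptive_of_isFullyNormalized hS hR.2.1
  set A : Subgroup G := (autInducedBy T R).subgroupOf G with hA
  set O := Subgroup.normalClosure (A : Set G) with hO
  have hAO : A ≤ O := fun a ha => Subgroup.subset_normalClosure ha
  have hAU : A ≤ (U : Subgroup G) := by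
    rw [hU]
    exact fun a ha => autInducedBy_mono hT.1 ha
  -- a Sylow subgroup of `O`
  obtain ⟨W, hW⟩ := ((U.2.to_le (inf_le_left : (U : Subgroup G) ⊓ O ≤ U)).of_equiv
    (Subgroup.subgroupOfEquivOfLe inf_le_right).symm).exists_le_sylow
  have hWmap : (W : Subgroup O).map O.subtype = (U : Subgroup G) ⊓ O := by
    symm
    have h1 : (U : Subgroup G) ⊓ O ≤ (W : Subgroup O).map O.subtype :=
      fun x hx => ⟨⟨x, hx.2⟩, hW hx, rfl⟩
    obtain ⟨a, ha⟩ := exists_conj_mem_sylow U (W.2.map O.subtype)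
    refine Subgroup.eq_of_le_of_card_ge h1 ?_
    refine le_trans (le_of_eq (Subgroup.card_map_of_injective
      (f := (MulAut.conj a : G ≃* _).toMonoidHom) (MulEquiv.injective (MulAut.conj a))).symm)
      (Subgroup.card_le_of_le ?_)
    rintro _ ⟨x, hx, rfl⟩
    refine ⟨ha x hx, ?_⟩
    obtain ⟨y, -, rfl⟩ := hx
    exact Subgroup.normalClosure_normal.conj_mem _ y.2 a
  have hgen := W.normalizer_sup_eq_top
  rw [hWmap] at hgen
  set N := Subgroup.normalizer (((U : Subgroup G) ⊓ O : Subgroup G) : Set G)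
  -- elements of `N` extend
  have hext : ∀ n ∈ N, ∃ ψ ∈ F.Hom (R ⊔ normalizerIn T R),
      ∀ x : R, ψ ⟨x, Subgroup.mem_sup_left x.2⟩ = (((n : G) : MulAut R) x : R) := fun n hn =>
    exists_extension_of_normalizes hrec (n : G).2 (fun g hg => ⟨hT.1 hg.1, hg.2⟩) (by
      intro g hg hgN
      let c : G := ⟨R.normalizerMonoidHom ⟨g, hgN⟩,
        autInducedBy_le_autGroup hRS (mem_autInducedBy_iff.mpr ⟨g, hT.1 hg.1, hgN, fun _ => rfl⟩)⟩
      have hcA : c ∈ A :=
        (mem_autInducedBy_iff.mpr ⟨g, hg.1, hgN, fun _ => rfl⟩ : (c : MulAut R) ∈ autInducedBy T R)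
      exact hU.le ((Subgroup.mem_normalizer_iff.mp hn c).mp ⟨hAU hcA, hAO hcA⟩).1)
  have hNA : ∀ n ∈ N, ∀ a ∈ A, n * a * n⁻¹ ∈ A := by
    intro n hn a ha
    obtain ⟨t, ht, htn, hte⟩ := mem_autInducedBy_iff.mp (Subgroup.mem_subgroupOf.mp ha)
    obtain ⟨ψ, hψ, hψe⟩ := hext n hn
    have hi := isIso_funOf hψ
    have htm : t ∈ R ⊔ normalizerIn T R := Subgroup.mem_sup_right ⟨ht, htn⟩
    have hψR : ∀ r : R, funOf ψ r = ((n : MulAut R) r : R) := fun r => by
      rw [← hψe r]; exact (funOf_apply ψ ⟨r, Subgroup.mem_sup_left r.2⟩).symm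
    refine Subgroup.mem_subgroupOf.mpr (mem_autInducedBy_iff.mpr
      ⟨funOf ψ t, hT.iso_mem hi htm ht, ?_, fun r => ?_⟩)
    · exact hi.mem_normalizer le_sup_left (fun y => ⟨fun hy => ⟨_, ((n : MulAut R)⁻¹ ⟨y, hy⟩).2, by
        rw [hψR]; simp⟩, fun ⟨z, hz, he⟩ => he ▸ hψR ⟨z, hz⟩ ▸ SetLike.coe_mem _⟩) htm htn
    · set r' := ((n⁻¹ : G) : MulAut R) r with hr'
      have hrr : r = (n : MulAut R) r' := by rw [hr']; simp
      simp only [Subgroup.coe_mul, MulAut.mul_apply]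
      rw [← hr', ← hψR, hte, hi.apply_conj htm (Subgroup.mem_sup_left r'.2), hψR, ← hrr]
  -- `O` fixes the elements
  let Fx : Subgroup G :=
    { carrier := {g | ∀ x : R, (x : Ω) ∈ centSub E F → (g : MulAut R) x = x}
      one_mem' := fun x _ => rfl
      mul_mem' := fun {a b} ha hb x hx => by
        rw [Subgroup.coe_mul, MulAut.mul_apply, hb x hx, ha x hx]
      inv_mem' := fun {a} ha x hx => by
        conv_lhs => rw [← ha x hx]
        simp }
  have hAF : A ≤ Fx := fun a ha x hx => by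
    obtain ⟨t, ht, -, hte⟩ := mem_autInducedBy_iff.mp (Subgroup.mem_subgroupOf.mp ha)
    refine Subtype.ext ?_
    rw [hte, Subgroup.mem_centralizer_iff.mp (centSub_le hx).2 t ht, mul_inv_cancel_right]
  have hOF : O ≤ Fx := by
    by_contra hnot
    set M : Subgroup O := Fx.subgroupOf O
    have hne : M ≠ ⊤ := fun e => hnot (Subgroup.subgroupOf_eq_top.mp e)
    let W0 : Subgroup O := Subgroup.closure {g | ¬ p ∣ orderOf g}
    have hW0M : W0 ≤ M := (Subgroup.closure_le _).mpr fun a ha x hx =>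
      fixed_of_prime hS hE hR.1 hRr a.2 (by rwa [Subgroup.orderOf_coe]) x hx
    have hW0n : W0.Normal := by
      refine Subgroup.Normal.mk fun n hn g => ?_
      have : W0.map (MulAut.conj g).toMonoidHom ≤ W0 := by
        rw [Subgroup.map_le_iff_le_comap, Subgroup.closure_le]
        intro x hx
        refine Subgroup.subset_closure ?_
        show ¬ p ∣ orderOf ((MulAut.conj g) x)
        rwa [MulEquiv.orderOf_eq]
      exact this ⟨n, hn, rfl⟩
    have hq : IsPGroup p (O ⧸ W0) := by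
      intro y
      obtain ⟨g, rfl⟩ := QuotientGroup.mk'_surjective W0 y
      obtain ⟨e, he⟩ := prime_part (p := p) g
      exact ⟨e, by rw [← map_pow, QuotientGroup.mk'_apply, QuotientGroup.eq_one_iff]
                   exact Subgroup.subset_closure he⟩
    haveI := hq.isNilpotent
    set π := QuotientGroup.mk' W0
    have hMlt : M.map π ≠ ⊤ := by
      intro e
      apply hne
      rw [eq_top_iff]
      intro g _
      obtain ⟨m, hm, hme⟩ : π g ∈ M.map π := e ▸ Subgroup.mem_top _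
      have : m⁻¹ * g ∈ W0 := QuotientGroup.eq.mp hme
      simpa using M.mul_mem hm (hW0M this)
    obtain ⟨X, hX, hMX⟩ := (eq_top_or_exists_le_coatom (M.map π)).resolve_left hMlt
    have hXn : X.Normal := Subgroup.NormalizerCondition.normal_of_coatom X (Group.normalizerCondition_of_isNilpotent) hX
    have hXO : O ≤ (X.comap π).map O.subtype := by
      let Y : Subgroup G := (X.comap π).map O.subtype
      have hAX : ∀ a ∈ A, a ∈ Y := fun a ha =>
        ⟨⟨a, hAO ha⟩, hMX ⟨⟨a, hAO ha⟩, hAF ha, rfl⟩, rfl⟩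
      show Subgroup.closure (Group.conjugatesOfSet (A : Set G)) ≤ Y
      refine (Subgroup.closure_le _).mpr fun c hc => ?_
      show c ∈ Y
      obtain ⟨a, ha, hac⟩ := Group.mem_conjugatesOfSet_iff.mp hc
      obtain ⟨g, rfl⟩ := isConj_iff.mp hac
      have hg : g ∈ O ⊔ N := by
        rw [sup_comm, hgen]; exact Subgroup.mem_top _
      haveI : O.Normal := Subgroup.normalClosure_normal
      obtain ⟨o, ho, n, hn, hgon⟩ := Subgroup.mem_sup_of_normal_left.mp hg
      obtain ⟨y, hy, hye⟩ := hAX _ (hNA n hn a ha)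
      have hconj : (⟨o, ho⟩ : O) * y * (⟨o, ho⟩ : O)⁻¹ ∈ X.comap π :=
        (Subgroup.Normal.comap hXn π).conj_mem y hy ⟨o, ho⟩
      refine Subgroup.mem_map.mpr ⟨_, hconj, ?_⟩
      rw [← hgon, map_mul, map_mul, map_inv, hye, Subgroup.coe_subtype, Subgroup.coe_mk]
      group
    apply hX.1
    rw [eq_top_iff]
    intro y _
    obtain ⟨g, rfl⟩ := QuotientGroup.mk'_surjective W0 y
    obtain ⟨z, hz, hze⟩ := hXO g.2
    have : z = g := Subtype.ext hze
    exact this ▸ hz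
  have hcard : Nat.card R < Nat.card ↥(R ⊔ normalizerIn T R) := by
    haveI := finite_of_le (sup_le hRS (normalizerIn_le.trans hT.1) : R ⊔ normalizerIn T R ≤ S)
    refine card_lt_of_lt (lt_of_le_of_ne le_sup_left fun e => ?_)
    have hle : R ⊔ T ≤ S := sup_le hRS hT.1
    have hlt' : R < R ⊔ T := lt_of_le_of_ne le_sup_left fun e => hTR (le_sup_right.trans e.ge)
    haveI := finite_of_le hle
    obtain ⟨w, hw, hwR⟩ := SetLike.exists_of_lt (lt_normalizerIn (p := p) (hS.to_le hle) hlt')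
    have hw1 : w ∈ (↑(R ⊔ T) : Set Ω) := hw.1
    rw [Subgroup.coe_mul_of_left_le_normalizer_right R T (hRS.trans hT.le_normalizer)] at hw1
    obtain ⟨r, hr, t, ht, rfl⟩ := hw1
    have htN : t ∈ Subgroup.normalizer (R : Set Ω) := by
      have := Subgroup.mul_mem _ (Subgroup.inv_mem _
        (Subgroup.le_normalizer hr : r ∈ Subgroup.normalizer (R : Set Ω))) hw.2
      simpa [mul_assoc] using this
    exact hwR (R.mul_mem hr (e.ge (Subgroup.mem_sup_right ⟨ht, htN⟩)))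
  rw [eq_top_iff]
  intro g _
  haveI : O.Normal := Subgroup.normalClosure_normal
  obtain ⟨o, ho, n, hn, hgon⟩ := Subgroup.mem_sup_of_normal_left.mp
    (show g ∈ O ⊔ N by rw [sup_comm, hgen]; exact Subgroup.mem_top _)
  obtain ⟨φ, hφ, -, he⟩ := F.exists_map_of_mem_autGroup hRS g.2
  obtain ⟨o', ho', hgno⟩ : ∃ o' ∈ O, g = n * o' :=
    ⟨n⁻¹ * o * n, by simpa using ‹O.Normal›.conj_mem o ho n⁻¹, by rw [← hgon]; group⟩
  obtain ⟨ψ, hψ, hψe⟩ := hext n hn
  obtain ⟨-, hψC, R₂, Q₂, g₂, hg₂, hle₂, hg₂e⟩ := hbig _ hcard hψ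
  have hval : ∀ x : R, (x : Ω) ∈ centSub E F → φ x = ψ ⟨x, Subgroup.mem_sup_left x.2⟩ := fun x hx => by
    rw [he, hψe, hgno, Subgroup.coe_mul, MulAut.mul_apply, hOF ho' x hx]
  refine (extSystem hS hE).mem_autGroup_of_map (φ := φ) ⟨hφ, fun x => ?_, R₂, Q₂, g₂, hg₂,
    (sup_le_sup_right (inf_le_inf_right _ le_sup_left) T).trans hle₂, fun x hx => ?_⟩ fun x => (he x).symm
  · exact ⟨fun hx => (stronglyClosed_centSub hS hE).apply_mem_of_mem hφ hx, fun hx => by
      obtain ⟨χ, hχ, hχe⟩ := F.inv_mem hφ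
      have := (stronglyClosed_centSub hS hE).apply_mem_of_mem hχ (x := ⟨φ x, x, rfl⟩) hx
      rwa [hχe] at this⟩
  · rw [hval x hx]
    exact hg₂e ⟨x, Subgroup.mem_sup_left x.2⟩ hx

end Cfsg.FusionSystem.SubCent
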